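import Groth.Agent.AVChowLib.Sub
import Groth.Agent.GrpSchLib.RedSubgroup
import Groth.Agent.H23.MaxAbelian
import Groth.Agent.H23.RedSub

/-! The reduced subscheme of a connected closed subgroup of an abelian variety, over an arbitrary field. -/

noncomputable section

universe u

set_option linter.style.haveILetI false
set_option linter.unusedSectionVars false
set_option backward.isDefEq.respectTransparency false
set_option backward.isDefEq.respectTransparency.types false
set_option maxHeartbeats 1000000
set_option synthInstance.maxHeartbeats 200000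

open CategoryTheory CategoryTheory.Limits MonoidalCategory CartesianMonoidalCategory AlgebraicGeometry
open scoped MonObj

namespace Groth.Agent.AVChowLib

open Groth.Agent

variable {k : Type u} [Field k]

theorem universallyInjective_ext (k K : Type u) [Field k] [Field K] [Algebra k K] [IsPurelyInseparable k K] :
    UniversallyInjective (AbVar.ext k K) := by
  refine ((tfae_universallyInjective _).out 0 1).2 fun L hL g₁ g₂ hg => ?_
  obtain ⟨a, rfl⟩ := Spec.map_surjective g₁
  obtain ⟨b, rfl⟩ := Spec.map_surjective g₂
  have hg' : CommRingCat.ofHom (algebraMap k K) ≫ a = CommRingCat.ofHom (algebraMap k K) ≫ b :=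
    Spec.map_injective (by rw [Spec.map_comp, Spec.map_comp]; exact hg)
  congr 1
  ext1
  letI := hL
  exact IsPurelyInseparable.injective_comp_algebraMap k K L congr($(hg').hom)

/-- A connected closed subgroup of an abelian variety has the underlying space of an abelian subvariety. -/
theorem exists_abelian_of_connected (X : Over (Spec (CommRingCat.of k))) [GrpObj X] [IsProper X.hom]
    [GeometricallyIntegral X.hom] (Y : Over (Spec (CommRingCat.of k))) [GrpObj Y] (i : Y ⟶ X) [IsMonHom i]
    [IsClosedImmersion i.left] [ConnectedSpace ↥Y.left] :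
    ∃ (B : Over (Spec (CommRingCat.of k))) (_ : GrpObj B) (c : B ⟶ Y), IsProper B.hom ∧
      GeometricallyIntegral B.hom ∧ IsMonHom c ∧ IsClosedImmersion c.left ∧ Surjective c.left := by
  let P := perfectClosure k (AlgebraicClosure k)
  have hP : AbVar.IsPrimaryExt k P := fun x hx => IsPurelyInseparable.inseparable' x hx
  let e := AbVar.ext k P
  haveI : IsIntegralHom e := IsIntegralHom.SpecMap_iff.mpr
    (show (algebraMap k P).IsIntegral from fun x => IsPurelyInseparable.isIntegral.isIntegral x)
  haveI : UniversallyInjective e := universallyInjective_ext k P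
  haveI : Surjective e := ⟨fun y => ⟨IsLocalRing.closedPoint P, Subsingleton.elim (α := PrimeSpectrum k) _ y⟩⟩
  let YP := Red.bc e Y
  let p : YP.left ⟶ Y.left := pullback.fst Y.hom e
  haveI : UniversallyInjective p := MorphismProperty.pullback_fst (P := @UniversallyInjective) _ _ ‹_›
  haveI : Surjective p := MorphismProperty.pullback_fst (P := @Surjective) _ _ ‹_›
  haveI : IsIntegralHom p := MorphismProperty.pullback_fst (P := @IsIntegralHom) _ _ ‹_›
  let hp : ↥YP.left ≃ₜ ↥Y.left :=
    (Equiv.ofBijective p ⟨p.injective, p.surjective⟩).toHomeomorphOfContinuousClosed p.continuous p.isClosedMap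
  haveI : ConnectedSpace ↥YP.left := hp.symm.surjective.connectedSpace hp.symm.continuous
  haveI := isProper_bc (K := P) X
  haveI := geometricallyIntegral_bc (K := P) X
  let iP : YP ⟶ Red.bc e X := (Over.pullback e).map i
  haveI : IsClosedImmersion iP.left := prop_map @IsClosedImmersion i ‹_›
  haveI : IsMonHom iP := inferInstance
  haveI : IsProper YP.hom := by rw [← Over.w iP]; infer_instance
  obtain ⟨H, _, ρ, _, _, _, hρs, -, -⟩ := GrpSchLib.RedSubgroup.exists_redSubgroup YP
  haveI := hρs
  haveI : IsProper H.hom := by rw [← Over.w ρ]; infer_instance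
  haveI : GeometricallyReduced H.hom :=
    ⟨fun K _ y P fst snd h => by
      haveI : IsReduced (pullback H.hom y) := GrpSchLib.isReduced_pullback_of_perfectField H.hom y
      exact isReduced_of_isOpenImmersion h.isoPullback.hom⟩
  haveI : ConnectedSpace H.left := by
    have hne : Nonempty H.left := ⟨η[H].left (IsLocalRing.closedPoint P)⟩
    refine { isPreconnected_univ := ?_, toNonempty := hne }
    rw [ρ.left.isClosedEmbedding.isInducing.isPreconnected_image.symm, Set.image_univ, ρ.left.surjective.range_eq]
    exact isPreconnected_univ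
  haveI := H23.MaxAbelian.geometricallyIntegral_of_connected H
  haveI : IsClosedImmersion (ρ ≫ iP).left := inferInstanceAs (IsClosedImmersion (ρ.left ≫ iP.left))
  obtain ⟨B, _, j, hBp, hBg, _, hjc, e', he'⟩ := exists_subvariety (A := X) hP H (ρ ≫ iP)
  haveI := hBp; haveI := hBg; haveI := hjc
  let q : (Red.bc e B).left ⟶ B.left := pullback.fst B.hom e
  haveI : Surjective q := MorphismProperty.pullback_fst (P := @Surjective) _ _ ‹_›
  have hsq : ∀ b', j.left (q b') = i.left (p (ρ.left (e'.hom.left b'))) := by
    intro b'
    have h1 : ((Over.pullback e).map j).left ≫ pullback.fst X.hom e = q ≫ j.left := pullback.lift_fst _ _ _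
    have h2 : iP.left ≫ pullback.fst X.hom e = p ≫ i.left := pullback.lift_fst _ _ _
    calc j.left (q b') = (q ≫ j.left) b' := rfl
      _ = (((Over.pullback e).map j).left ≫ pullback.fst X.hom e) b' := by rw [h1]
      _ = ((e'.hom.left ≫ ρ.left ≫ iP.left) ≫ pullback.fst X.hom e) b' := by
        rw [← Over.comp_left, ← Over.comp_left, he']
      _ = (e'.hom.left ≫ ρ.left ≫ p ≫ i.left) b' := by simp only [Category.assoc, h2]
      _ = _ := rfl
  haveI : IsIntegral B.left := GeometricallyIntegral.isIntegral_of_subsingleton B.hom
  obtain ⟨c₀, hc₀⟩ := H23.RedSub.exists_lift_closed j.left i.left (by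
    rintro _ ⟨b, rfl⟩
    obtain ⟨b', rfl⟩ := q.surjective b
    exact ⟨_, (hsq b').symm⟩)
  let c : B ⟶ Y := Over.homMk c₀ (by rw [← Over.w i, reassoc_of% hc₀, Over.w j])
  have hc : c ≫ i = j := Over.OverMorphism.ext hc₀
  haveI : Mono i := Over.mono_of_mono_left i
  haveI : IsMonHom c := ⟨by rw [← cancel_mono i, Category.assoc, hc, IsMonHom.one_hom (f := j), IsMonHom.one_hom (f := i)],
    by rw [← cancel_mono i, Category.assoc, hc, IsMonHom.mul_hom (f := j), Category.assoc,
      IsMonHom.mul_hom (f := i), ← Category.assoc, tensorHom_comp_tensorHom, hc]⟩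
  refine ⟨B, inferInstance, c, hBp, hBg, inferInstance, ?_, ⟨fun y => ?_⟩⟩
  · haveI : IsClosedImmersion (c.left ≫ i.left) := by rw [← Over.comp_left, hc]; infer_instance
    exact IsClosedImmersion.of_comp c.left i.left
  · obtain ⟨y', rfl⟩ := p.surjective y
    obtain ⟨h', rfl⟩ := ρ.left.surjective y'
    haveI : IsIso e'.hom.left := (Over.forget _).map_isIso e'.hom
    obtain ⟨b', rfl⟩ := e'.hom.left.surjective h'
    refine ⟨q b', i.left.isClosedEmbedding.injective ?_⟩
    rw [← hsq b', ← hc]
    rfl

end Groth.Agent.AVChowLib
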