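import Groth.Agent.AVChowLib.Sub
import Groth.Agent.AVSubLib.FppfFactor
import Groth.Agent.GrpSchLib.HomFlat
import Groth.Agent.S4362

/-! Existence of the image of an abelian variety over a primary extension. -/

noncomputable section

universe u

set_option linter.style.haveILetI false
set_option linter.unusedSectionVars false
set_option backward.isDefEq.respectTransparency false
set_option backward.isDefEq.respectTransparency.types false
set_option maxHeartbeats 1000000
set_option synthInstance.maxHeartbeats 200000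

open CategoryTheory CategoryTheory.Limits MonoidalCategory CartesianMonoidalCategory AlgebraicGeometry
open scoped MonObj

namespace Groth.Agent.AVChowLib

open Groth.Agent

variable {k K : Type u} [Field k] [Field K] [Algebra k K]

/-- A morphism into the base change of a product is determined by its two components. -/
theorem bc_prod_ext {X Y : Over (Spec (CommRingCat.of k))} {Z : Over (Spec (CommRingCat.of K))}
    {f g : Z ⟶ Red.bc (AbVar.ext k K) (X ⊗ Y)}
    (h1 : f ≫ (Over.pullback (AbVar.ext k K)).map (fst X Y) = g ≫ (Over.pullback (AbVar.ext k K)).map (fst X Y))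
    (h2 : f ≫ (Over.pullback (AbVar.ext k K)).map (snd X Y) = g ≫ (Over.pullback (AbVar.ext k K)).map (snd X Y)) :
    f = g := by
  let F := Over.pullback (AbVar.ext k K)
  have h3 : f ≫ Functor.OplaxMonoidal.δ F X Y = g ≫ Functor.OplaxMonoidal.δ F X Y := by
    refine CartesianMonoidalCategory.hom_ext _ _ ?_ ?_
    · simpa only [Category.assoc, Functor.OplaxMonoidal.δ_fst] using h1
    · simpa only [Category.assoc, Functor.OplaxMonoidal.δ_snd] using h2
  exact (cancel_mono (Functor.OplaxMonoidal.δ F X Y)).1 h3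

theorem geometricallyIntegral_point :
    GeometricallyIntegral (𝟙_ (Over (Spec (CommRingCat.of k)))).hom := by
  show GeometricallyIntegral (𝟙 (Spec (CommRingCat.of k)))
  exact H23.MaxAbelian.geometricallyIntegral_of_pullback _ fun L _ x =>
    isIntegral_of_isOpenImmersion (pullback.snd (𝟙 _) x)

variable (A : Over (Spec (CommRingCat.of K))) [GrpObj A] [IsProper A.hom] [GeometricallyIntegral A.hom]

/-- The kernel ideals of surjective homomorphisms to constant abelian varieties. -/
def KerSet (k : Type u) [Field k] [Algebra k K] : Set A.left.IdealSheafData :=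
  {I | ∃ (A₀ : Over (Spec (CommRingCat.of k))) (_ : GrpObj A₀) (lam : A ⟶ Red.bc (AbVar.ext k K) A₀),
    IsProper A₀.hom ∧ GeometricallyIntegral A₀.hom ∧ IsMonHom lam ∧ Surjective lam.left ∧
      (pullback.fst lam.left (η[Red.bc (AbVar.ext k K) A₀]).left).ker = I}

/-- A primary extension has images of abelian varieties. -/
theorem exists_isChowImage (hK : AbVar.IsPrimaryExt k K) :
    ∃ (A₀ : Over (Spec (CommRingCat.of k))) (_ : GrpObj A₀), IsProper A₀.hom ∧ GeometricallyIntegral A₀.hom ∧
      ∃ lam : A ⟶ Red.bc (AbVar.ext k K) A₀, AbVar.IsChowImage k K A A₀ lam := by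
  haveI : IsLocallyNoetherian A.left := LocallyOfFiniteType.isLocallyNoetherian A.hom
  haveI : CompactSpace A.left := QuasiCompact.compactSpace_of_compactSpace A.hom
  haveI : IsNoetherian A.left := {}
  haveI : IsIntegral A.left := GeometricallyIntegral.isIntegral_of_subsingleton A.hom
  have hne : (KerSet A k).Nonempty := by
    let P := 𝟙_ (Over (Spec (CommRingCat.of k)))
    haveI : IsProper P.hom := inferInstanceAs (IsProper (𝟙 (Spec (CommRingCat.of k))))
    haveI : GeometricallyIntegral P.hom := geometricallyIntegral_point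
    haveI := isProper_bc (K := K) P
    haveI := geometricallyIntegral_bc (K := K) P
    let lam : A ⟶ Red.bc (AbVar.ext k K) P := (1 : A ⟶ Red.bc (AbVar.ext k K) P)
    haveI : IsMonHom lam := GrpSchLib.RigidHom.isMonHom_of_one lam (by rw [MonObj.comp_one])
    haveI : Subsingleton ↥(Red.bc (AbVar.ext k K) P).left := by
      haveI : IsIso (pullback.snd P.hom (AbVar.ext k K)) := pullback_snd_iso_of_left_iso (𝟙 _) _
      exact (Scheme.homeoOfIso (asIso (pullback.snd P.hom (AbVar.ext k K)))).injective.subsingleton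
    haveI : Nonempty A.left := ⟨η[A].left (IsLocalRing.closedPoint K)⟩
    exact ⟨_, P, inferInstance, lam, inferInstance, inferInstance, inferInstance,
      ⟨fun y => ⟨(inferInstance : Nonempty A.left).some, Subsingleton.elim _ _⟩⟩, rfl⟩
  haveI : WellFoundedGT A.left.IdealSheafData := S4362.result A.left
  obtain ⟨I, ⟨A₀, _, lam, hp₀, hg₀, hlam, hsurj, hI⟩, hmax⟩ :=
    WellFounded.has_min (IsWellFounded.wf (r := (· > ·))) (KerSet A k) hne
  haveI := hp₀; haveI := hg₀; haveI := hlam; haveI := hsurj
  refine ⟨A₀, inferInstance, hp₀, hg₀, lam, hlam, hsurj, fun B _ _ _ α _ => ?_⟩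
  haveI := H23.MaxAbelian.geometricallyIntegral_tensor A₀ B
  haveI : IsProper (A₀ ⊗ B).hom := inferInstanceAs (IsProper (pullback.fst A₀.hom B.hom ≫ A₀.hom))
  haveI := isProper_bc (K := K) (A₀ ⊗ B)
  haveI := geometricallyIntegral_bc (K := K) (A₀ ⊗ B)
  let F := Over.pullback (AbVar.ext k K)
  let p : A ⟶ Red.bc (AbVar.ext k K) (A₀ ⊗ B) := lift lam α ≫ Functor.LaxMonoidal.μ F A₀ B
  have hp1 : p ≫ F.map (fst A₀ B) = lam := by
    simp only [p, Category.assoc, Functor.Monoidal.μ_fst]
    exact lift_fst _ _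
  have hp2 : p ≫ F.map (snd A₀ B) = α := by
    simp only [p, Category.assoc, Functor.Monoidal.μ_snd]
    exact lift_snd _ _
  haveI : IsMonHom (fst A₀ B) := inferInstance
  haveI : IsMonHom (snd A₀ B) := inferInstance
  haveI : IsMonHom p := GrpSchLib.RigidHom.isMonHom_of_one p (by
    refine Eq.trans (bc_prod_ext (g := η[Red.bc (AbVar.ext k K) (A₀ ⊗ B)]) ?_ ?_) (MonObj.one_eq_one _)
    · rw [Category.assoc, hp1, IsMonHom.one_hom (f := lam), IsMonHom.one_hom (f := F.map (fst A₀ B))]
    · rw [Category.assoc, hp2, IsMonHom.one_hom (f := α), IsMonHom.one_hom (f := F.map (snd A₀ B))])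
  obtain ⟨C, _, j', f', _, _, hjc, hCp, hCg, hfs, hf'⟩ := AVSplitLib.exists_image p
  haveI := hjc; haveI := hCp; haveI := hCg; haveI := hfs
  obtain ⟨B₀, _, i, hBp, hBg, _, hic, e, he⟩ := exists_subvariety (A := A₀ ⊗ B) hK C j'
  haveI := hBp; haveI := hBg
  haveI := isProper_bc (K := K) B₀
  haveI := geometricallyIntegral_bc (K := K) B₀
  let lam' : A ⟶ Red.bc (AbVar.ext k K) B₀ := f' ≫ e.inv
  have hli : lam' ≫ F.map i = p := by simp only [lam', Category.assoc, ← he, Iso.inv_hom_id_assoc, F, hf']
  haveI : Mono j' := Over.mono_of_mono_left j'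
  haveI : IsMonHom lam' := GrpSchLib.RigidHom.isMonHom_of_one lam' (by
    refine Eq.trans ?_ (MonObj.one_eq_one (M := Red.bc (AbVar.ext k K) B₀))
    rw [← cancel_mono e.hom, ← cancel_mono j']
    simp only [lam', Category.assoc, Iso.inv_hom_id_assoc]
    rw [hf', he, IsMonHom.one_hom (f := p), IsMonHom.one_hom (f := (Over.pullback (AbVar.ext k K)).map i)])
  haveI : IsIso e.inv.left := (Over.forget _).map_isIso e.inv
  haveI : Surjective lam'.left := inferInstanceAs (Surjective (f'.left ≫ e.inv.left))
  let ι₁ := pullback.fst lam.left (η[Red.bc (AbVar.ext k K) A₀]).left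
  let ι₂ := pullback.fst lam'.left (η[Red.bc (AbVar.ext k K) B₀]).left
  haveI := isProper_bc (K := K) A₀
  have hcl : ∀ (Y : Over (Spec (CommRingCat.of K))) [GrpObj Y] [IsSeparated Y.hom], IsClosedImmersion η[Y].left := by
    intro Y _ _
    let u : Spec (CommRingCat.of K) ⟶ Y.left := η[Y].left
    have hu : u ≫ Y.hom = 𝟙 _ := Over.w η[Y]
    haveI : IsClosedImmersion (u ≫ Y.hom) := by rw [hu]; infer_instance
    exact IsClosedImmersion.of_comp u Y.hom
  haveI := hcl (Red.bc (AbVar.ext k K) A₀)
  haveI := hcl (Red.bc (AbVar.ext k K) B₀)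
  haveI : IsClosedImmersion ι₁ := MorphismProperty.pullback_fst (P := @IsClosedImmersion) _ _ ‹_›
  haveI : IsClosedImmersion ι₂ := MorphismProperty.pullback_fst (P := @IsClosedImmersion) _ _ ‹_›
  have hkill : ∀ {T : Over (Spec (CommRingCat.of K))} (a : T ⟶ A) {Y : Over (Spec (CommRingCat.of K))} [GrpObj Y]
      (l : A ⟶ Y) (w : T.left ⟶ pullback l.left η[Y].left), w ≫ pullback.fst l.left η[Y].left = a.left →
      a ≫ l = 1 := by
    intro T a Y _ l w hw
    refine Over.OverMorphism.ext ?_
    show a.left ≫ l.left = T.hom ≫ η[Y].left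
    have h1 : w ≫ pullback.snd l.left η[Y].left = T.hom := by
      have h2 := Over.w a
      rw [← hw, ← Over.w l, Category.assoc, ← Category.assoc (pullback.fst l.left η[Y].left), pullback.condition,
        Category.assoc, show η[Y].left ≫ Y.hom = 𝟙 _ from Over.w η[Y], Category.comp_id] at h2
      exact h2
    rw [← hw, Category.assoc, pullback.condition, ← Category.assoc, h1]
  let Q : Over (Spec (CommRingCat.of K)) := Over.mk (ι₂ ≫ A.hom)
  let q : Q ⟶ A := Over.homMk ι₂ rfl
  have hq : q ≫ lam = 1 := by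
    have h1 : q ≫ lam' = 1 := hkill q lam' (𝟙 _) (Category.id_comp _)
    have h2 : lam' ≫ F.map (i ≫ fst A₀ B) = lam := by rw [Functor.map_comp, ← Category.assoc, hli, hp1]
    rw [← h2, ← Category.assoc, h1, MonObj.one_comp]
  have hle : ι₁.ker ≤ ι₂.ker := by
    let w : Q.left ⟶ pullback lam.left (η[Red.bc (AbVar.ext k K) A₀]).left :=
      pullback.lift ι₂ Q.hom (congrArg CommaMorphism.left hq)
    rw [show ι₂ = w ≫ ι₁ from (pullback.lift_fst _ _ _).symm]
    exact Scheme.Hom.le_ker_comp _ _
  have heq : ι₂.ker ≤ ι₁.ker := by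
    rcases hle.eq_or_lt with h | h
    · exact h.ge
    · exact absurd (hI ▸ h) (hmax _ ⟨B₀, inferInstance, lam', hBp, hBg, inferInstance, inferInstance, rfl⟩)
  haveI := geometricallyIntegral_bc (K := K) A₀
  haveI : IsIntegral (Red.bc (AbVar.ext k K) A₀).left :=
    GeometricallyIntegral.isIntegral_of_subsingleton (Red.bc (AbVar.ext k K) A₀).hom
  haveI : IsProper (lam.left ≫ (Red.bc (AbVar.ext k K) A₀).hom) := by rw [Over.w lam]; infer_instance
  haveI : IsProper lam.left := IsProper.of_comp lam.left (Red.bc (AbVar.ext k K) A₀).hom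
  haveI : Flat lam.left := GrpSchLib.flat_of_surjective_hom lam
  obtain ⟨u, ⟨hu, hlu⟩, -⟩ := AVSubLib.existsUnique_factor lam lam' fun T a ha => by
    let w : T.left ⟶ pullback lam.left (η[Red.bc (AbVar.ext k K) A₀]).left :=
      pullback.lift a.left T.hom (congrArg CommaMorphism.left ha)
    exact hkill a lam' (w ≫ IsClosedImmersion.lift ι₂ ι₁ heq)
      (by rw [Category.assoc, IsClosedImmersion.lift_fac]; exact pullback.lift_fst _ _ _)
  haveI := hu
  obtain ⟨u₀, _, hu₀⟩ := exists_descend_hom hK u
  refine ⟨u₀ ≫ i ≫ snd A₀ B, inferInstance, ?_⟩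
  rw [Functor.map_comp, Functor.map_comp, hu₀, ← Category.assoc, hlu, ← Category.assoc,
    show lam' ≫ (Over.pullback (AbVar.ext k K)).map i = p from hli]
  exact hp2

end Groth.Agent.AVChowLib
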