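import Groth.Agent.AVChowLib.Isogeny
import Groth.Agent.AVChowLib.Component
import Groth.Agent.AVChowLib.Image
import Groth.Agent.GrpSchLib.IdentityComp

/-! The kernel of a Chow image is connected. -/

noncomputable section

universe u

set_option linter.style.haveILetI false
set_option linter.unusedSectionVars false
set_option backward.isDefEq.respectTransparency false
set_option backward.isDefEq.respectTransparency.types false
set_option maxHeartbeats 2000000
set_option synthInstance.maxHeartbeats 200000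

open CategoryTheory CategoryTheory.Limits MonoidalCategory CartesianMonoidalCategory AlgebraicGeometry
open scoped MonObj

namespace Groth.Agent.AVChowLib

open Groth.Agent

theorem universallyInjective_of_comp {X Y Z : Scheme.{u}} (f : X ⟶ Y) (g : Y ⟶ Z)
    [UniversallyInjective (f ≫ g)] : UniversallyInjective f := by
  refine ((tfae_universallyInjective f).out 0 1).2 fun L hL g₁ g₂ h => ?_
  letI := hL
  have h' : ∀ (F : Type u) [Field F], Function.Injective
      (fun φ : Spec (.of F) ⟶ X => φ ≫ f ≫ g) :=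
    ((tfae_universallyInjective (f ≫ g)).out 0 1).1 ‹_›
  exact h' L (by show g₁ ≫ f ≫ g = g₂ ≫ f ≫ g; rw [reassoc_of% h])

theorem isFinite_of_comp_surjective {X Y Z : Scheme.{u}} (a : X ⟶ Y) (b : Y ⟶ Z) [Surjective a] [IsProper b]
    [IsFinite (a ≫ b)] : IsFinite b := by
  haveI : LocallyQuasiFinite b := LocallyQuasiFinite.of_finite_preimage_singleton b fun z => by
    refine (((a ≫ b).finite_preimage_singleton z).image a).subset fun y hy => ?_
    obtain ⟨x, rfl⟩ := a.surjective y
    exact ⟨x, hy, rfl⟩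
  exact IsFinite.of_isProper_of_locallyQuasiFinite b

section Field

variable {F : Type u} [Field F]

theorem eq_one_of_pow_eq_one {C D : Over (Spec (CommRingCat.of F))} [GrpObj C] [IsProper C.hom]
    [GeometricallyIntegral C.hom] [GrpObj D] [IsCommMonObj D] (f : C ⟶ D) [IsMonHom f] {r : ℕ} (hr : 1 ≤ r)
    (h : f ^ r = 1) : f = 1 := by
  haveI : IsCommMonObj C := isCommMonObj_of_isProper_of_geometricallyIntegral C
  haveI : IsIntegral C.left := GeometricallyIntegral.isIntegral_of_subsingleton C.hom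
  haveI : IsFinite (𝟙 C ^ r : C ⟶ C).left := AVMulN.isFinite_pow (A := C) r hr
  haveI : Surjective (𝟙 C ^ r : C ⟶ C).left := AVMulN.surjective_pow (A := C) r hr
  haveI : IsMonHom (𝟙 C ^ r : C ⟶ C) := TorsPtsLib.isMonHom_pow' C r
  haveI : Flat (𝟙 C ^ r : C ⟶ C).left := GrpSchLib.flat_of_surjective_hom (𝟙 C ^ r : C ⟶ C)
  haveI : Epi (𝟙 C ^ r : C ⟶ C).left := Flat.epi_of_flat_of_surjective _
  haveI : Epi (𝟙 C ^ r : C ⟶ C) := (Over.forget _).epi_of_epi_map (inferInstanceAs (Epi (𝟙 C ^ r : C ⟶ C).left))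
  rw [← cancel_epi (𝟙 C ^ r : C ⟶ C), MonObj.pow_comp, Category.id_comp, h, MonObj.comp_one]

theorem flat_hom {C D : Over (Spec (CommRingCat.of F))} [GrpObj C] [IsProper C.hom]
    [GrpObj D] [IsProper D.hom] [GeometricallyIntegral D.hom] (f : C ⟶ D) [IsMonHom f] [Surjective f.left] :
    IsProper f.left ∧ Flat f.left := by
  haveI : IsIntegral D.left := GeometricallyIntegral.isIntegral_of_subsingleton D.hom
  haveI : IsProper (f.left ≫ D.hom) := by rw [Over.w f]; infer_instance
  haveI : IsProper f.left := IsProper.of_comp f.left D.hom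
  exact ⟨inferInstance, GrpSchLib.flat_of_surjective_hom f⟩

theorem surjective_tensor {X Y X' Y' : Over (Spec (CommRingCat.of F))} (f : X ⟶ Y) (g : X' ⟶ Y')
    [hf : Surjective f.left] [hg : Surjective g.left] : Surjective (f ⊗ₘ g).left := by
  haveI : MorphismProperty.IsStableUnderComposition @Surjective := ⟨fun f g _ _ => inferInstance⟩
  exact MorphismProperty.pullbackMap (P := @Surjective) hf hg (Over.w f).symm (Over.w g).symm

end Field

variable {k K : Type u} [Field k] [Field K] [Algebra k K]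

/-- The kernel of an image is connected. -/
theorem connectedSpace_kernel (hK : AbVar.IsPrimaryExt k K)
    (A : Over (Spec (CommRingCat.of K))) [GrpObj A] [IsProper A.hom] [GeometricallyIntegral A.hom]
    (A₀ : Over (Spec (CommRingCat.of k))) [GrpObj A₀] [IsProper A₀.hom] [GeometricallyIntegral A₀.hom]
    (lam : A ⟶ Red.bc (AbVar.ext k K) A₀) (h : AbVar.IsChowImage k K A A₀ lam) :
    ConnectedSpace ↥(pullback lam.left (η[Red.bc (AbVar.ext k K) A₀]).left) := by
  haveI := h.isMonHom; haveI := h.surjective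
  haveI := isProper_bc (K := K) A₀
  haveI := geometricallyIntegral_bc (K := K) A₀
  haveI : IsClosedImmersion η[Red.bc (AbVar.ext k K) A₀].left := isClosedImmersion_one _
  haveI : IsCommMonObj A := isCommMonObj_of_isProper_of_geometricallyIntegral A
  haveI : IsCommMonObj (Red.bc (AbVar.ext k K) A₀) :=
    isCommMonObj_of_isProper_of_geometricallyIntegral (Red.bc (AbVar.ext k K) A₀)
  obtain ⟨G, _, iG, _, _, -, hkG⟩ := GrpSchLib.exists_kernel lam
  haveI : IsProper G.hom := by rw [← Over.w iG]; infer_instance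
  let c₀ := IsLocalRing.closedPoint K
  suffices hconn : ConnectedSpace G.left by
    have hsq : CategoryTheory.IsPullback iG.left (toUnit G).left lam.left η[Red.bc (AbVar.ext k K) A₀].left :=
      hkG.map (Over.forget _)
    exact hsq.isoPullback.hom.surjective.connectedSpace hsq.isoPullback.hom.continuous
  obtain ⟨G₀, _, incl, _, hinc, -, hrange, hirr, hcpt⟩ := GrpSchLib.exists_identityComponent (G := G)
  haveI := hinc
  haveI : ConnectedSpace G₀.left := by
    haveI : Nonempty G₀.left := ⟨η[G₀].left c₀⟩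
    refine { isPreconnected_univ := ?_, toNonempty := inferInstance }
    rw [incl.left.isClosedEmbedding.isInducing.isPreconnected_image.symm, Set.image_univ, hrange]
    exact isPreconnected_connectedComponent
  haveI : IsClosedImmersion (incl ≫ iG).left := inferInstanceAs (IsClosedImmersion (incl.left ≫ iG.left))
  obtain ⟨V, _, c, hVp, hVg, _, hcc, hcs⟩ := exists_abelian_of_connected A G₀ (incl ≫ iG)
  haveI := hVp; haveI := hVg; haveI := hcc; haveI := hcs
  haveI : IsCommMonObj V := isCommMonObj_of_isProper_of_geometricallyIntegral V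
  let iV : V ⟶ A := c ≫ incl ≫ iG
  haveI : IsClosedImmersion iV.left := inferInstanceAs (IsClosedImmersion (c.left ≫ (incl ≫ iG).left))
  haveI : Mono iV := Over.mono_of_mono_left iV
  have hVrange : Set.range iV.left = iG.left '' connectedComponent (η[G].left c₀) := by
    rw [← hrange, ← Set.range_comp]
    exact c.left.surjective.range_comp (incl ≫ iG).left
  have hVlam : iV ≫ lam = 1 := by
    show (c ≫ incl ≫ iG) ≫ lam = 1
    rw [Category.assoc, Category.assoc, show iG ≫ lam = 1 from hkG.w, MonObj.comp_one, MonObj.comp_one]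
  obtain ⟨r, _, N, hN, hr⟩ := AVSplitLib.exists_retraction iV
  let ε : A ⟶ A := 𝟙 A ^ N * (r ≫ iV)⁻¹
  haveI : IsMonHom (𝟙 A ^ N : A ⟶ A) := TorsPtsLib.isMonHom_pow' A N
  haveI : IsMonHom ε := GrpSchLib.RigidHom.isMonHom_of_one ε (by
    show η[A] ≫ (𝟙 A ^ N * (r ≫ iV)⁻¹) = 1
    rw [MonObj.comp_mul, GrpObj.comp_inv, IsMonHom.one_hom (f := (𝟙 A ^ N : A ⟶ A)),
      IsMonHom.one_hom (f := r ≫ iV), mul_inv_cancel])
  obtain ⟨C', _, jC, e, _, _, hjc, hCp, hCg, hes, he⟩ := AVSplitLib.exists_image ε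
  haveI := hjc; haveI := hCp; haveI := hCg; haveI := hes
  haveI : Mono jC := Over.mono_of_mono_left jC
  haveI : IsCommMonObj C' := isCommMonObj_of_isProper_of_geometricallyIntegral C'
  haveI : Flat e.left := (flat_hom e).2
  haveI : QuasiCompact e.left := by haveI := (flat_hom e).1; infer_instance
  haveI : Epi e := (AVQuotLib.Cov.epi ⟨inferInstance, inferInstance, inferInstance⟩)
  have hjr : jC ≫ r = 1 := by
    rw [← cancel_epi e, reassoc_of% he, MonObj.comp_one]
    show (𝟙 A ^ N * (r ≫ iV)⁻¹) ≫ r = 1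
    rw [MonObj.mul_comp, GrpObj.inv_comp, MonObj.pow_comp, Category.id_comp, Category.assoc, hr, MonObj.comp_pow,
      Category.comp_id, mul_inv_cancel]
  haveI := H23.MaxAbelian.geometricallyIntegral_tensor V C'
  haveI : IsProper (V ⊗ C').hom := inferInstanceAs (IsProper (pullback.fst V.hom C'.hom ≫ V.hom))
  let σ : V ⊗ C' ⟶ A := (fst V C' ≫ iV) * (snd V C' ≫ jC)
  haveI : IsMonHom σ := GrpSchLib.RigidHom.isMonHom_of_one σ (by
    show η[V ⊗ C'] ≫ ((fst V C' ≫ iV) * (snd V C' ≫ jC)) = 1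
    rw [MonObj.comp_mul, IsMonHom.one_hom (f := fst V C' ≫ iV), IsMonHom.one_hom (f := snd V C' ≫ jC),
      MonObj.one_eq_one, _root_.one_mul])
  have hσN : lift r e ≫ σ = 𝟙 A ^ N := by
    show lift r e ≫ ((fst V C' ≫ iV) * (snd V C' ≫ jC)) = _
    rw [MonObj.comp_mul, lift_fst_assoc, lift_snd_assoc, he]
    show r ≫ iV * (𝟙 A ^ N * (r ≫ iV)⁻¹) = _
    rw [mul_comm, inv_mul_cancel_right]
  haveI : Surjective σ.left := by
    haveI := AVMulN.surjective_pow (A := A) N hN
    haveI : Surjective ((lift r e).left ≫ σ.left) := by rw [← Over.comp_left, hσN]; infer_instance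
    exact Surjective.of_comp (lift r e).left σ.left
  haveI : IsProper σ.left := (flat_hom σ).1
  haveI : Flat σ.left := (flat_hom σ).2
  obtain ⟨M, _, ν, _, _, -, hkM⟩ := GrpSchLib.exists_kernel σ
  haveI : IsProper M.hom := by rw [← Over.w ν]; infer_instance
  haveI : Mono ν := Over.mono_of_mono_left ν
  let m₁ : M ⟶ V := ν ≫ fst V C'
  let i : M ⟶ C' := ν ≫ snd V C'
  have hM : (m₁ ≫ iV) * (i ≫ jC) = 1 := by
    rw [← show ν ≫ σ = 1 from hkM.w]
    show _ = ν ≫ ((fst V C' ≫ iV) * (snd V C' ≫ jC))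
    rw [MonObj.comp_mul]
    simp only [m₁, i, Category.assoc]
  have hiC : i ≫ jC = (m₁ ≫ iV)⁻¹ := eq_inv_of_mul_eq_one_right hM
  haveI : Mono m₁ := ⟨fun a b hab => by
    rw [← cancel_mono ν]
    refine CartesianMonoidalCategory.hom_ext _ _ (by simpa [m₁] using hab) ?_
    have : (a ≫ i) ≫ jC = (b ≫ i) ≫ jC := by
      rw [Category.assoc a i jC, Category.assoc b i jC, hiC, GrpObj.comp_inv, GrpObj.comp_inv,
        ← Category.assoc a m₁ iV, hab, Category.assoc b m₁ iV]
    simpa [i] using (cancel_mono jC).1 this⟩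
  haveI : Mono i := ⟨fun a b hab => by
    rw [← cancel_mono ν]
    refine CartesianMonoidalCategory.hom_ext _ _ ?_ (by simpa [i] using hab)
    have : (a ≫ m₁) ≫ iV = (b ≫ m₁) ≫ iV := by
      rw [Category.assoc a m₁ iV, Category.assoc b m₁ iV, ← inv_inv (m₁ ≫ iV), ← hiC, GrpObj.comp_inv,
        GrpObj.comp_inv, ← Category.assoc a i jC, hab, Category.assoc b i jC]
    simpa [m₁] using (cancel_mono iV).1 this⟩
  have hm₁ : m₁ ≫ (𝟙 V ^ N : V ⟶ V) = 1 := by
    have h1 : (i ≫ jC) ≫ r = 1 := by rw [Category.assoc, hjr, MonObj.comp_one]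
    rw [hiC, GrpObj.inv_comp, inv_eq_one, Category.assoc, hr] at h1
    exact h1
  have hclosed : ∀ {Y : Over (Spec (CommRingCat.of K))} [IsProper Y.hom] (f : M ⟶ Y) [Mono f],
      IsClosedImmersion f.left := by
    intro Y _ f _
    haveI : IsProper (f.left ≫ Y.hom) := by rw [Over.w f]; infer_instance
    haveI : IsProper f.left := IsProper.of_comp f.left Y.hom
    exact (IsClosedImmersion.iff_isProper_and_mono _).2 ⟨inferInstance, inferInstanceAs (Mono ((Over.forget _).map f))⟩
  haveI : IsClosedImmersion i.left := hclosed i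
  haveI : IsFinite M.hom := by
    haveI : IsClosedImmersion m₁.left := hclosed m₁
    haveI : IsMonHom (𝟙 V ^ N : V ⟶ V) := TorsPtsLib.isMonHom_pow' V N
    obtain ⟨T, _, jT, _, _, -, hkT⟩ := GrpSchLib.exists_kernel (𝟙 V ^ N : V ⟶ V)
    haveI : IsFinite T.hom := H23.KerIsog.prop_ker jT (𝟙 V ^ N : V ⟶ V) @IsFinite hkT (AVMulN.isFinite_pow (A := V) N hN)
    let l : M ⟶ T := hkT.lift m₁ (toUnit M) (by rw [hm₁]; rfl)
    have hl : l ≫ jT = m₁ := hkT.lift_fst _ _ _
    haveI : IsClosedImmersion (l.left ≫ jT.left) := by rw [← Over.comp_left, hl]; infer_instance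
    haveI : IsClosedImmersion l.left := IsClosedImmersion.of_comp l.left jT.left
    rw [← Over.w l]; infer_instance
  haveI : IsMonHom i := inferInstance
  have hiN : i ≫ (𝟙 C' ^ N : C' ⟶ C') = 1 := by
    rw [← cancel_mono jC, MonObj.one_comp, MonObj.comp_pow, Category.comp_id, MonObj.pow_comp, hiC, inv_pow,
      inv_eq_one, ← MonObj.pow_comp]
    rw [show (m₁ ^ N : M ⟶ V) = 1 from by rw [← hm₁, MonObj.comp_pow, Category.comp_id], MonObj.one_comp]
  obtain ⟨C, _, q, hQp, hQg, _, hqf, hqfl, hqs, hiq, hqk⟩ := AVQuotLib.exists_quotient i N hN hiN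
  haveI := hQp; haveI := hQg; haveI := hqf; haveI := hqfl; haveI := hqs
  haveI : IsCommMonObj C := isCommMonObj_of_isProper_of_geometricallyIntegral C
  haveI : IsMonHom (snd V C' ≫ q) := inferInstance
  obtain ⟨v, ⟨_, hv⟩, -⟩ := AVSubLib.existsUnique_factor σ (snd V C' ≫ q) fun T a ha => by
    let b : T ⟶ M := hkM.lift a (toUnit T) (by rw [ha]; rfl)
    rw [← show b ≫ ν = a from hkM.lift_fst _ _ _, Category.assoc, ← Category.assoc ν, show (ν ≫ snd V C') = i from rfl,
      hiq, MonObj.comp_one]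
  haveI : Surjective v.left := by
    haveI : Surjective (snd V C').left := ⟨fun x => by
      obtain ⟨y, hy⟩ : x ∈ Set.range (lift (1 : C' ⟶ V) (𝟙 C') ≫ snd V C').left := by rw [lift_snd]; exact ⟨x, rfl⟩
      exact ⟨_, hy⟩⟩
    haveI : Surjective ((snd V C' ≫ q).left) := inferInstanceAs (Surjective ((snd V C').left ≫ q.left))
    haveI : Surjective (σ.left ≫ v.left) := by rw [← Over.comp_left, hv]; infer_instance
    exact Surjective.of_comp σ.left v.left
  haveI : IsMonHom (jC ≫ lam) := inferInstance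
  obtain ⟨w, ⟨_, hw⟩, -⟩ := AVSubLib.existsUnique_factor q (jC ≫ lam) fun T a ha => by
    obtain ⟨b, rfl⟩ := hqk T a ha
    rw [Category.assoc, ← Category.assoc i, hiC, GrpObj.inv_comp, Category.assoc, hVlam, MonObj.comp_one, inv_one,
      MonObj.comp_one]
  haveI : Epi σ := AVQuotLib.Cov.epi ⟨inferInstance, inferInstance, inferInstance⟩
  have hvw : v ≫ w = lam := by
    rw [← cancel_epi σ, reassoc_of% hv, hw]
    show _ = ((fst V C' ≫ iV) * (snd V C' ≫ jC)) ≫ lam
    rw [MonObj.mul_comp, Category.assoc, hVlam, MonObj.comp_one, _root_.one_mul, Category.assoc]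
  haveI : Surjective w.left := by
    haveI : Surjective (v.left ≫ w.left) := by rw [← Over.comp_left, hvw]; infer_instance
    exact Surjective.of_comp v.left w.left
  obtain ⟨s, _, m, hm, hsw⟩ := AVSplitLib.exists_quasiSection w
  haveI : IsMonHom (𝟙 C ^ m : C ⟶ C) := TorsPtsLib.isMonHom_pow' C m
  let δ : C ⟶ C := 𝟙 C ^ m * (w ≫ s)⁻¹
  haveI : IsMonHom δ := GrpSchLib.RigidHom.isMonHom_of_one δ (by
    show η[C] ≫ (𝟙 C ^ m * (w ≫ s)⁻¹) = 1
    rw [MonObj.comp_mul, GrpObj.comp_inv, IsMonHom.one_hom (f := (𝟙 C ^ m : C ⟶ C)),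
      IsMonHom.one_hom (f := w ≫ s), mul_inv_cancel])
  have hδw : δ ≫ w = 1 := by
    show (𝟙 C ^ m * (w ≫ s)⁻¹) ≫ w = 1
    rw [MonObj.mul_comp, GrpObj.inv_comp, MonObj.pow_comp, Category.id_comp, Category.assoc, hsw, MonObj.comp_pow,
      Category.comp_id, mul_inv_cancel]
  obtain ⟨sv, _, t, ht, hsv⟩ := AVSplitLib.exists_quasiSection v
  haveI : IsIntegral C.left := GeometricallyIntegral.isIntegral_of_subsingleton C.hom
  let α : C ⟶ A := δ ≫ sv
  have hαlam : α ≫ lam = 1 := by
    rw [← hvw, show α ≫ v ≫ w = (δ ≫ (sv ≫ v)) ≫ w from by simp [α], hsv, MonObj.comp_pow, Category.comp_id,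
      MonObj.pow_comp, hδw, one_pow]
  let β : C ⟶ G := hkG.lift α (toUnit C) (by rw [hαlam]; rfl)
  have hβ : β ≫ iG = α := hkG.lift_fst _ _ _
  have hβ0 : η[C] ≫ β = η[G] := by
    haveI : Mono iG := Over.mono_of_mono_left iG
    rw [← cancel_mono iG, Category.assoc, hβ, IsMonHom.one_hom (f := iG)]
    exact IsMonHom.one_hom (f := α)
  have hsub : Set.range α.left ⊆ Set.range iV.left := by
    rw [hVrange, ← hβ]
    rintro _ ⟨x, rfl⟩
    refine ⟨β.left x, ?_, rfl⟩
    refine (isPreconnected_range β.left.continuous).subset_connectedComponent ?_ ⟨x, rfl⟩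
    exact ⟨η[C].left c₀, by rw [← hβ0]; rfl⟩
  obtain ⟨gm₀, hgm⟩ := H23.RedSub.exists_lift_closed α.left iV.left hsub
  let gm : C ⟶ V := Over.homMk gm₀ (by rw [← Over.w iV, reassoc_of% hgm, Over.w α])
  have hgmV : gm ≫ iV = α := Over.OverMorphism.ext hgm
  have hVv : iV ≫ v = 1 := by
    have e1 : lift (𝟙 V) (1 : V ⟶ C') ≫ σ = iV := by
      show lift (𝟙 V) (1 : V ⟶ C') ≫ ((fst V C' ≫ iV) * (snd V C' ≫ jC)) = iV
      rw [MonObj.comp_mul, lift_fst_assoc, lift_snd_assoc, Category.id_comp, MonObj.one_comp, _root_.mul_one]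
    rw [← e1, Category.assoc, hv, lift_snd_assoc, MonObj.one_comp]
  have hδ1 : δ = 1 := eq_one_of_pow_eq_one δ ht (by
    calc δ ^ t = α ≫ v := by rw [show α ≫ v = δ ≫ (sv ≫ v) from Category.assoc _ _ _, hsv, MonObj.comp_pow,
          Category.comp_id]
      _ = 1 := by rw [← hgmV, Category.assoc, hVv, MonObj.comp_one])
  have hws : w ≫ s = 𝟙 C ^ m := (mul_inv_eq_one.1 hδ1).symm
  haveI : Surjective s.left := by
    haveI := AVMulN.surjective_pow (A := C) m hm
    haveI : Surjective (w.left ≫ s.left) := by rw [← Over.comp_left, hws]; infer_instance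
    exact Surjective.of_comp w.left s.left
  haveI : IsFinite s.left := by
    haveI := AVMulN.isFinite_pow (A := C) m hm
    haveI : IsFinite (w.left ≫ s.left) := by rw [← Over.comp_left, hws]; infer_instance
    haveI : IsProper s.left := (flat_hom s).1
    exact isFinite_of_comp_surjective w.left s.left
  obtain ⟨B₁, _, u, hBp, hBg, hu, -, hui⟩ := exists_constant_quotient hK A₀ C s
  haveI := hBp; haveI := hBg; haveI := hu; haveI := hui
  obtain ⟨α₀, _, hα₀⟩ := h.fac B₁ (v ≫ u)
  refine { isPreconnected_univ := ?_, toNonempty := ⟨η[G].left c₀⟩ }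
  suffices hall : Set.univ = connectedComponent (η[G].left c₀) by
    rw [hall]; exact isPreconnected_connectedComponent
  refine (Set.eq_univ_of_forall fun x => ?_).symm
  have h0 : iG ≫ v ≫ u = 1 := by
    rw [← hα₀, reassoc_of% (show iG ≫ lam = 1 from hkG.w), MonObj.one_comp]
  have hvx : v.left (iG.left x) ∈ Set.range η[C].left := by
    refine ⟨c₀, u.left.injective ?_⟩
    have e1 : u.left (η[C].left c₀) = η[Red.bc (AbVar.ext k K) B₁].left c₀ :=
      congrArg (fun f : 𝟙_ (Over (Spec (CommRingCat.of K))) ⟶ Red.bc (AbVar.ext k K) B₁ => f.left c₀)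
        (IsMonHom.one_hom (f := u))
    have e2 : u.left (v.left (iG.left x)) = (1 : G ⟶ Red.bc (AbVar.ext k K) B₁).left x :=
      congrArg (fun f : G ⟶ Red.bc (AbVar.ext k K) B₁ => f.left x) h0
    rw [e1, e2]
    show _ = η[Red.bc (AbVar.ext k K) B₁].left (G.hom x)
    rw [Subsingleton.elim (α := PrimeSpectrum K) (G.hom x) c₀]
  obtain ⟨z, hz⟩ := σ.left.surjective (iG.left x)
  have hqz : q.left ((snd V C').left z) ∈ Set.range η[C].left := by
    rw [show q.left ((snd V C').left z) = v.left (σ.left z) from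
      congrArg (fun f : V ⊗ C' ⟶ C => f.left z) hv.symm, hz]
    exact hvx
  obtain ⟨Nq, _, iq, _, _, -, hkq⟩ := GrpSchLib.exists_kernel q
  obtain ⟨y, hy⟩ := (range_ker hkq).ge hqz
  obtain ⟨b, hb⟩ := hqk Nq iq hkq.w
  have hzi : (snd V C').left z ∈ Set.range i.left := ⟨b.left y, by rw [← hy, ← hb]; rfl⟩
  have hzr : z ∈ Set.range (V ◁ i).left := by
    rw [Over.whiskerLeft_left]
    exact (Set.ext_iff.1 (Scheme.Pullback.range_map _ _ _ _ _ _ _ _ _) z).2 ⟨⟨_, rfl⟩, hzi⟩
  obtain ⟨z', rfl⟩ := hzr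
  have e3 : (V ◁ i) ≫ σ = ((fst V M) * (snd V M ≫ m₁⁻¹)) ≫ iV := by
    show (V ◁ i) ≫ ((fst V C' ≫ iV) * (snd V C' ≫ jC)) = _
    rw [MonObj.comp_mul, whiskerLeft_fst_assoc, whiskerLeft_snd_assoc, hiC, MonObj.mul_comp]
    simp only [Category.assoc, GrpObj.inv_comp, GrpObj.comp_inv, m₁]
  have hxV : iG.left x ∈ Set.range iV.left := by
    rw [← hz]
    exact ⟨(fst V M * (snd V M ≫ m₁⁻¹)).left z', congrArg (fun f : V ⊗ M ⟶ A => f.left z') e3.symm⟩
  rw [hVrange] at hxV
  obtain ⟨x', hx', hxx⟩ := hxV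
  rwa [← iG.left.isClosedEmbedding.injective hxx]

/-- The Chow image of a quotient of a constant abelian variety is bijective. -/
theorem universallyInjective_of_surjective (hK : AbVar.IsPrimaryExt k K)
    (A : Over (Spec (CommRingCat.of K))) [GrpObj A] [IsProper A.hom] [GeometricallyIntegral A.hom]
    (A₀ : Over (Spec (CommRingCat.of k))) [GrpObj A₀] [IsProper A₀.hom] [GeometricallyIntegral A₀.hom]
    (lam : A ⟶ Red.bc (AbVar.ext k K) A₀) (h : AbVar.IsChowImage k K A A₀ lam)
    (B : Over (Spec (CommRingCat.of k))) [GrpObj B] [IsProper B.hom] [GeometricallyIntegral B.hom]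
    (β : Red.bc (AbVar.ext k K) B ⟶ A) [IsMonHom β] [Surjective β.left] :
    UniversallyInjective lam.left := by
  haveI := isProper_bc (K := K) B
  haveI := geometricallyIntegral_bc (K := K) B
  haveI : IsCommMonObj A := isCommMonObj_of_isProper_of_geometricallyIntegral A
  haveI : IsCommMonObj (Red.bc (AbVar.ext k K) B) :=
    isCommMonObj_of_isProper_of_geometricallyIntegral (Red.bc (AbVar.ext k K) B)
  obtain ⟨s, _, n, hn, hs⟩ := AVSplitLib.exists_quasiSection β
  obtain ⟨C', _, i', f', _, _, hic, hCp, hCg, hfs, hf'⟩ := AVSplitLib.exists_image s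
  haveI := hic; haveI := hCp; haveI := hCg; haveI := hfs
  obtain ⟨B', _, i, hBp, hBg, _, -, e, he⟩ := exists_subvariety (A := B) hK C' i'
  haveI := hBp; haveI := hBg
  haveI := isProper_bc (K := K) B'
  haveI := geometricallyIntegral_bc (K := K) B'
  let φ : Red.bc (AbVar.ext k K) B' ⟶ A := (Over.pullback (AbVar.ext k K)).map i ≫ β
  haveI : IsMonHom φ := inferInstance
  haveI : IsIso e.inv.left := (Over.forget _).map_isIso e.inv
  let g : A ⟶ Red.bc (AbVar.ext k K) B' := f' ≫ e.inv
  haveI : Surjective g.left := inferInstanceAs (Surjective (f'.left ≫ e.inv.left))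
  have hg : g ≫ φ = 𝟙 A ^ n := by
    show (f' ≫ e.inv) ≫ (Over.pullback (AbVar.ext k K)).map i ≫ β = _
    rw [← he, Category.assoc, Category.assoc, Iso.inv_hom_id_assoc, reassoc_of% hf', hs]
  haveI : Surjective φ.left := by
    haveI := AVMulN.surjective_pow (A := A) n hn
    haveI : Surjective (g.left ≫ φ.left) := by rw [← Over.comp_left, hg]; infer_instance
    exact Surjective.of_comp g.left φ.left
  haveI : IsProper φ.left := (flat_hom φ).1
  haveI : IsFinite φ.left := by
    haveI := AVMulN.isFinite_pow (A := A) n hn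
    haveI : IsFinite (g.left ≫ φ.left) := by rw [← Over.comp_left, hg]; infer_instance
    exact isFinite_of_comp_surjective g.left φ.left
  obtain ⟨B₁, _, u, hp₁, hg₁, hu, -, hui⟩ := exists_constant_quotient hK B' A φ
  haveI := hp₁; haveI := hg₁; haveI := hu; haveI := hui
  obtain ⟨α₀, _, hα₀⟩ := h.fac B₁ u
  haveI : UniversallyInjective (lam.left ≫ ((Over.pullback (AbVar.ext k K)).map α₀).left) := by
    rw [← Over.comp_left, hα₀]; exact hui
  exact universallyInjective_of_comp lam.left ((Over.pullback (AbVar.ext k K)).map α₀).left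

end Groth.Agent.AVChowLib
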