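import Groth.Agent.AVChowLib.Sub
import Groth.Agent.GrpSchLib.MonoSubgroup
import Groth.Agent.H23.RedSub
import Groth.Agent.S2150

/-! Over a primary extension, the underlying set of a subgroup of a finite group scheme descends. -/

noncomputable section

universe u

set_option linter.style.haveILetI false
set_option linter.unusedSectionVars false
set_option backward.isDefEq.respectTransparency false
set_option backward.isDefEq.respectTransparency.types false
set_option maxHeartbeats 1000000
set_option synthInstance.maxHeartbeats 200000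

open CategoryTheory CategoryTheory.Limits MonoidalCategory CartesianMonoidalCategory AlgebraicGeometry
open scoped MonObj

namespace Groth.Agent.AVChowLib

open Groth.Agent

variable {k K : Type u} [Field k] [Field K] [Algebra k K]

theorem discrete_of_finite {N : Scheme.{u}} (q : N ⟶ Spec (CommRingCat.of k)) [IsFinite q] : DiscreteTopology N := by
  have : IsAffine N := isAffine_of_isAffineHom q
  obtain ⟨φ, hφ⟩ := Spec.map_surjective (N.isoSpec.inv ≫ q)
  have h1 : IsFinite (Spec.map φ) := by rw [hφ]; infer_instance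
  rw [IsFinite.SpecMap_iff] at h1
  algebraize [φ.hom]
  have : IsArtinianRing Γ(N, ⊤) := IsArtinianRing.of_finite k _
  exact (Scheme.homeoOfIso N.isoSpec).symm.discreteTopology

/-- The points of a finite scheme are unchanged by a primary extension. -/
theorem injective_fst (hK : AbVar.IsPrimaryExt k K) (T : Over (Spec (CommRingCat.of k))) [IsFinite T.hom] :
    Function.Injective (pullback.fst T.hom (AbVar.ext k K)) := by
  intro x y hxy
  let e := AbVar.ext k K
  haveI : IsFinite (pullback.snd T.hom e) := MorphismProperty.pullback_snd (P := @IsFinite) _ _ ‹_›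
  haveI := discrete_of_finite (pullback.snd T.hom e)
  let t : T.left := pullback.fst T.hom e x
  let g := T.left.fromSpecResidueField t ≫ T.hom
  let L : Type u := T.left.residueField t
  letI : Field L := inferInstanceAs (Field (T.left.residueField t))
  letI : Algebra k L := (Spec.preimage g).hom.toAlgebra
  have hg : Spec.map (CommRingCat.ofHom (algebraMap k L)) = g := Spec.map_preimage g
  haveI : IrreducibleSpace (PrimeSpectrum (TensorProduct k L K)) := (S2150.result (k := k) (K := K)).2 hK L
  haveI : IrreducibleSpace ↥(Spec (CommRingCat.of (TensorProduct k L K))) :=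
    inferInstanceAs (IrreducibleSpace (PrimeSpectrum (TensorProduct k L K)))
  haveI : ConnectedSpace ↥(pullback (Spec.map (CommRingCat.ofHom (algebraMap k L))) e) :=
    (Scheme.homeoOfIso (pullbackSpecIso k L K)).symm.surjective.connectedSpace
      (Scheme.homeoOfIso (pullbackSpecIso k L K)).symm.continuous
  let w : pullback (Spec.map (CommRingCat.ofHom (algebraMap k L))) e ⟶ pullback T.hom e :=
    pullback.map _ _ _ _ (T.left.fromSpecResidueField t) (𝟙 _) (𝟙 _) (by rw [Category.comp_id, hg]) (by simp)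
  have hr : Set.range w = pullback.fst T.hom e ⁻¹' {t} := by
    refine (Scheme.Pullback.range_map _ _ _ _ _ _ _ _ _).trans ?_
    refine (congrArg₂ (fun a b => (pullback.fst T.hom e) ⁻¹' a ∩ (pullback.snd T.hom e) ⁻¹' b)
      (Scheme.range_fromSpecResidueField t) (Set.range_eq_univ.2 fun z => ⟨z, rfl⟩)).trans ?_
    simp
  have hpre : _root_.IsPreconnected (Set.range w) := by
    rw [← Set.image_univ]
    exact isPreconnected_univ.image _ w.continuous.continuousOn
  exact hpre.subsingleton (hr.symm ▸ (rfl : pullback.fst T.hom e x = t)) (hr.symm ▸ hxy.symm)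

theorem range_map_left {U T : Over (Spec (CommRingCat.of k))} (j : U ⟶ T) :
    Set.range ((Over.pullback (AbVar.ext k K)).map j).left =
      pullback.fst T.hom (AbVar.ext k K) ⁻¹' Set.range j.left := by
  have e : ((Over.pullback (AbVar.ext k K)).map j).left =
      pullback.map U.hom (AbVar.ext k K) T.hom (AbVar.ext k K) j.left (𝟙 _) (𝟙 _)
        (by rw [Category.comp_id]; exact (Over.w j).symm) (by simp) := by
    apply pullback.hom_ext
    · exact (pullback.lift_fst _ _ _).trans (pullback.lift_fst _ _ _).symm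
    · exact (pullback.lift_snd _ _ _).trans ((pullback.lift_snd _ _ _).trans (Category.comp_id _)).symm
  rw [e]
  refine (Scheme.Pullback.range_map _ _ _ _ _ _ _ _ _).trans ?_
  simp

/-- A subgroup of the base change of a finite group scheme has the underlying set of the base change of a
clopen subgroup. -/
theorem exists_clopen_subgroup (hK : AbVar.IsPrimaryExt k K) (T : Over (Spec (CommRingCat.of k))) [GrpObj T]
    [IsFinite T.hom] (G : Over (Spec (CommRingCat.of K))) [GrpObj G] (j : G ⟶ Red.bc (AbVar.ext k K) T)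
    [IsMonHom j] [IsClosedImmersion j.left] :
    ∃ (U : Over (Spec (CommRingCat.of k))) (_ : GrpObj U) (v : U ⟶ T), IsFinite U.hom ∧ IsMonHom v ∧
      IsClosedImmersion v.left ∧ IsOpenImmersion v.left ∧
      Set.range ((Over.pullback (AbVar.ext k K)).map v).left = Set.range j.left := by
  let F := Over.pullback (AbVar.ext k K)
  let p : (Red.bc (AbVar.ext k K) T).left ⟶ T.left := pullback.fst T.hom (AbVar.ext k K)
  haveI : Surjective (AbVar.ext k K) :=
    ⟨fun y => ⟨IsLocalRing.closedPoint K, Subsingleton.elim (α := PrimeSpectrum k) _ y⟩⟩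
  have hpi : Function.Injective p := injective_fst hK T
  haveI : DiscreteTopology T.left := discrete_of_finite T.hom
  let S₀ : Set T.left := p '' Set.range j.left
  have hS : p ⁻¹' S₀ = Set.range j.left := hpi.preimage_image _
  let O : T.left.Opens := ⟨S₀, isOpen_discrete _⟩
  let U : Over (Spec (CommRingCat.of k)) := Over.mk (O.ι ≫ T.hom)
  let v : U ⟶ T := Over.homMk O.ι rfl
  haveI hvo : IsOpenImmersion v.left := inferInstanceAs (IsOpenImmersion O.ι)
  have hvr : Set.range v.left = S₀ := O.range_ι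
  haveI : IsClosedImmersion v.left := IsClosedImmersion.of_isPreimmersion v.left (isClosed_discrete _)
  haveI : IsFinite U.hom := inferInstanceAs (IsFinite (v.left ≫ T.hom))
  haveI : Mono v := Over.mono_of_mono_left v
  have key : ∀ {Z : Over (Spec (CommRingCat.of k))} (m : Z ⟶ T),
      (∃ (R : Over (Spec (CommRingCat.of K))) (ρ : R ⟶ Red.bc (AbVar.ext k K) Z) (g : R ⟶ G),
        Surjective ρ.left ∧ g ≫ j = ρ ≫ F.map m) → Set.range m.left ⊆ S₀ := by
    rintro Z m ⟨R, ρ, g, hρ, hg⟩ _ ⟨z, rfl⟩
    haveI : Surjective (pullback.fst Z.hom (AbVar.ext k K)) :=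
      MorphismProperty.pullback_fst (P := @Surjective) _ _ ‹_›
    obtain ⟨z', rfl⟩ := (pullback.fst Z.hom (AbVar.ext k K)).surjective z
    obtain ⟨r, rfl⟩ := hρ.surj z'
    refine ⟨j.left (g.left r), ⟨_, rfl⟩, ?_⟩
    have h1 : (F.map m).left ≫ p = pullback.fst Z.hom (AbVar.ext k K) ≫ m.left := pullback.lift_fst _ _ _
    calc p (j.left (g.left r)) = ((g ≫ j).left ≫ p) r := rfl
      _ = (ρ.left ≫ (F.map m).left ≫ p) r := by rw [hg, Over.comp_left, Category.assoc]
      _ = _ := by rw [h1]; rfl
  have red : ∀ (Z : Over (Spec (CommRingCat.of k))), ∃ (R : Over (Spec (CommRingCat.of K)))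
      (ρ : R ⟶ Red.bc (AbVar.ext k K) Z), Surjective ρ.left ∧
      ∀ (m : Z ⟶ T), Set.range m.left ⊆ S₀ → ∃ g : R ⟶ G, g ≫ j = ρ ≫ F.map m := by
    intro Z
    let Zk := Red.bc (AbVar.ext k K) Z
    let R : Over (Spec (CommRingCat.of K)) := Over.mk (Zk.left.nilradical.subschemeι ≫ Zk.hom)
    let ρ : R ⟶ Zk := Over.homMk Zk.left.nilradical.subschemeι rfl
    haveI : IsReduced R.left := H23.RedSub.isReduced_nilradical Zk.left
    refine ⟨R, ρ, ⟨fun x => ?_⟩, fun m hm => ?_⟩
    · have h : Set.range Zk.left.nilradical.subschemeι = Set.univ := by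
        rw [Scheme.IdealSheafData.range_subschemeι, ← Scheme.IdealSheafData.vanishingIdeal_top]
        simp [Scheme.IdealSheafData.coe_support_vanishingIdeal]
      exact h.ge (Set.mem_univ x)
    · obtain ⟨g, hg⟩ := H23.RedSub.exists_lift_closed (ρ ≫ F.map m).left j.left (by
        rintro _ ⟨r, rfl⟩
        rw [← hS]
        show p ((ρ ≫ F.map m).left r) ∈ S₀
        have h1 : (F.map m).left ≫ p = pullback.fst Z.hom (AbVar.ext k K) ≫ m.left := pullback.lift_fst _ _ _
        rw [show p ((ρ ≫ F.map m).left r) = (ρ.left ≫ (F.map m).left ≫ p) r from rfl, h1]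
        exact hm ⟨_, rfl⟩)
      exact ⟨Over.homMk g (by rw [← Over.w j, reassoc_of% hg, Over.w (ρ ≫ F.map m)]), Over.OverMorphism.ext hg⟩
  have lft : ∀ {Z : Over (Spec (CommRingCat.of k))} (m : Z ⟶ T), Set.range m.left ⊆ S₀ →
      ∃ l : Z ⟶ U, l ≫ v = m := by
    intro Z m hm
    have hm' : Set.range m.left ⊆ Set.range v.left := hvr.symm ▸ hm
    exact ⟨Over.homMk (IsOpenImmersion.lift v.left m.left hm') (by
      rw [← Over.w v, IsOpenImmersion.lift_fac_assoc, Over.w m]), Over.OverMorphism.ext (IsOpenImmersion.lift_fac _ _ _)⟩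
  have hrv : ∀ {Z : Over (Spec (CommRingCat.of k))} (a : Z ⟶ U), Set.range (a ≫ v).left ⊆ S₀ := by
    rintro Z a _ ⟨z, rfl⟩
    exact hvr ▸ ⟨a.left z, rfl⟩
  have h1 : Set.range (1 : 𝟙_ (Over (Spec (CommRingCat.of k))) ⟶ T).left ⊆ S₀ :=
    key _ ⟨_, 𝟙 _, 1, inferInstanceAs (Surjective (𝟙 _)), by
      rw [Category.id_comp, MonObj.one_comp, Functor.map_one]⟩
  obtain ⟨η', hη'⟩ := lft _ h1
  have h2 : Set.range ((fst U U ≫ v) * (snd U U ≫ v)).left ⊆ S₀ := by
    obtain ⟨R, ρ, hρ, hR⟩ := red (U ⊗ U)
    obtain ⟨ga, hga⟩ := hR _ (hrv (fst U U))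
    obtain ⟨gb, hgb⟩ := hR _ (hrv (snd U U))
    exact key _ ⟨R, ρ, ga * gb, hρ, by rw [MonObj.mul_comp, hga, hgb, Functor.map_mul, MonObj.comp_mul]⟩
  obtain ⟨μ', hμ'⟩ := lft _ h2
  have h3 : Set.range (v⁻¹ : U ⟶ T).left ⊆ S₀ := by
    obtain ⟨R, ρ, hρ, hR⟩ := red U
    obtain ⟨ga, hga⟩ := hR v hvr.subset
    exact key _ ⟨R, ρ, ga⁻¹, hρ, by
      rw [GrpObj.inv_comp, hga, show F.map (v⁻¹) = (F.map v)⁻¹ from map_inv F.homMonoidHom v, GrpObj.comp_inv]⟩
  obtain ⟨ι', hι'⟩ := lft _ h3
  obtain ⟨str, hv⟩ := GrpSchLib.exists_grpObj_of_mono v η' (hη'.trans (MonObj.one_eq_one _).symm) μ' hμ' ι' hι'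
  exact ⟨U, str, v, inferInstance, hv, inferInstance, hvo, by rw [range_map_left, hvr]; exact hS⟩

end Groth.Agent.AVChowLib
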