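import Groth.Prelude.Def_W4bk6langav68Chow
import Groth.Agent.H23.RigidAb
import Groth.Agent.EssDimLib.EquivDescent
import Groth.Agent.GrpSchLib.RigidHom
import Groth.Agent.TorsPtsLib.BC
import Groth.Agent.S2150

/-! Chow's theorem: homomorphisms of abelian varieties descend along primary extensions. -/

noncomputable section

universe u

set_option linter.style.haveILetI false
set_option linter.unusedSectionVars false
set_option backward.isDefEq.respectTransparency false
set_option backward.isDefEq.respectTransparency.types false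
set_option maxHeartbeats 1000000
set_option synthInstance.maxHeartbeats 200000

open CategoryTheory CategoryTheory.Limits MonoidalCategory CartesianMonoidalCategory AlgebraicGeometry
open scoped MonObj

namespace Groth.Agent.AVChowLib

open Groth.Agent

variable {k K : Type u} [Field k] [Field K] [Algebra k K]

/-- The self product of a primary extension has connected spectrum. -/
theorem connectedSpace_sq (hK : AbVar.IsPrimaryExt k K) :
    ConnectedSpace ↥(pullback (AbVar.ext k K) (AbVar.ext k K)) := by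
  haveI : IrreducibleSpace (PrimeSpectrum (TensorProduct k K K)) :=
    (S2150.result (k := k) (K := K)).2 hK K
  haveI : ConnectedSpace ↥(Spec (CommRingCat.of (TensorProduct k K K))) :=
    inferInstanceAs (ConnectedSpace (PrimeSpectrum (TensorProduct k K K)))
  exact (Scheme.homeoOfIso (pullbackSpecIso k K K)).symm.surjective.connectedSpace
    (Scheme.homeoOfIso (pullbackSpecIso k K K)).symm.continuous

variable {X Y : Over (Spec (CommRingCat.of k))} [GrpObj X] [IsProper X.hom] [GeometricallyIntegral X.hom]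
  [GrpObj Y] [IsSeparated Y.hom]

/-- A pointed morphism over a primary extension descends. -/
theorem exists_descend (hK : AbVar.IsPrimaryExt k K) (f : Red.bc (AbVar.ext k K) X ⟶ Red.bc (AbVar.ext k K) Y)
    (hf : η[Red.bc (AbVar.ext k K) X] ≫ f = η[Red.bc (AbVar.ext k K) Y]) :
    ∃ f₀ : X ⟶ Y, IsMonHom f₀ ∧ (Over.pullback (AbVar.ext k K)).map f₀ = f := by
  let e := AbVar.ext k K
  let T : Over (Spec (CommRingCat.of k)) := Over.mk e
  let g : X ⊗ T ⟶ Y := Over.homMk (f.left ≫ pullback.fst Y.hom e) (by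
    show (f.left ≫ pullback.fst Y.hom e) ≫ Y.hom = pullback.fst X.hom e ≫ X.hom
    rw [Category.assoc, pullback.condition, ← Category.assoc,
      show f.left ≫ pullback.snd Y.hom e = pullback.snd X.hom e from Over.w f, ← pullback.condition])
  have bcη : ∀ (Z : Over (Spec (CommRingCat.of k))) [GrpObj Z],
      (η[Red.bc e Z]).left ≫ pullback.fst Z.hom e = e ≫ η[Z].left := fun Z _ => by
    have h1 : ((Over.pullback e).map η[Z]).left ≫ pullback.fst Z.hom e =
        pullback.fst (𝟙_ (Over (Spec (CommRingCat.of k)))).hom e ≫ (η[Z]).left := pullback.lift_fst _ _ _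
    have h4 : (Functor.LaxMonoidal.ε (Over.pullback e)).left ≫
        pullback.snd (𝟙_ (Over (Spec (CommRingCat.of k)))).hom e = 𝟙 _ := Over.w (Functor.LaxMonoidal.ε (Over.pullback e))
    have h5 : pullback.fst (𝟙_ (Over (Spec (CommRingCat.of k)))).hom e =
        pullback.snd (𝟙_ (Over (Spec (CommRingCat.of k)))).hom e ≫ e := by
      rw [← pullback.condition]
      exact (Category.comp_id _).symm
    rw [show η[Red.bc e Z] = Functor.LaxMonoidal.ε (Over.pullback e) ≫ (Over.pullback e).map η[Z] from rfl,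
      Over.comp_left, Category.assoc, h1, h5, Category.assoc, reassoc_of% h4]
  have hg1 : lift (toUnit T ≫ η[X]) (𝟙 T) ≫ g = 1 := by
    apply Over.OverMorphism.ext
    have hs : (lift (toUnit T ≫ η[X]) (𝟙 T)).left = (η[Red.bc e X]).left := by
      apply pullback.hom_ext
      · refine Eq.trans ?_ (bcη X).symm
        show (lift (toUnit T ≫ η[X]) (𝟙 T)).left ≫ (fst X T).left = _
        rw [← Over.comp_left, lift_fst]
        rfl
      · show (lift (toUnit T ≫ η[X]) (𝟙 T)).left ≫ (snd X T).left = _
        rw [← Over.comp_left, lift_snd]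
        exact (Over.w η[Red.bc e X]).symm
    show (lift (toUnit T ≫ η[X]) (𝟙 T)).left ≫ f.left ≫ pullback.fst Y.hom e = e ≫ η[Y].left
    rw [hs, ← Category.assoc, show (η[Red.bc e X]).left ≫ f.left = (η[Red.bc e Y]).left from
      congrArg CommaMorphism.left hf, bcη]
  let W := T ⊗ T
  haveI : ConnectedSpace W.left := connectedSpace_sq hK
  let d : X ⊗ W ⟶ Y := ((X ◁ fst T T) ≫ g) * ((X ◁ snd T T) ≫ g)⁻¹
  let p := pullback.snd X.hom W.hom
  let s : W.left ⟶ (X ⊗ W).left := (lift (toUnit W ≫ η[X]) (𝟙 W)).left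
  have hs : s ≫ p = 𝟙 W.left := H23.RigidAb.lift_left_snd η[X] W
  haveI : GeometricallyConnected X.hom := TorsPtsLib.geometricallyConnected X.hom
  have h0 : H23.RigidApply.ConstFibres p := (H23.RigidGamma.constFibres X.hom).baseChange W.hom
  have hg : p ≫ s ≫ d.left ≫ Y.hom = d.left ≫ Y.hom := by
    have hd : d.left ≫ Y.hom = p ≫ W.hom := (Over.w d).trans pullback.condition
    rw [hd, reassoc_of% hs]
  obtain ⟨C, hCc, hC, -⟩ := H23.RigidGen.of_section p h0 s hs Y.hom d.left hg
  let δ : T ⟶ W := lift (𝟙 T) (𝟙 T)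
  have hdd : (X ◁ δ) ≫ d = 1 := by
    simp only [d, MonObj.comp_mul, GrpObj.comp_inv, ← Category.assoc, ← whiskerLeft_comp, δ, lift_fst, lift_snd]
    rw [mul_inv_cancel]
  let o : T.left := IsLocalRing.closedPoint K
  have hmem : δ.left o ∈ H23.RigidNoeth.collapsed p d.left := by
    refine ⟨η[Y].left (IsLocalRing.closedPoint k), fun z hz => ?_⟩
    have hsq : IsPullback (X ◁ δ).left (pullback.snd X.hom T.hom) p δ.left := by
      refine IsPullback.of_right (h₁₂ := pullback.fst X.hom W.hom) (h₂₂ := W.hom) (v₁₃ := X.hom) ?_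
        (show (X ◁ δ).left ≫ (snd X W).left = (snd X T).left ≫ δ.left by
          rw [← Over.comp_left, ← Over.comp_left, whiskerLeft_snd]) (IsPullback.of_hasPullback X.hom W.hom)
      rw [show (X ◁ δ).left ≫ pullback.fst X.hom W.hom = pullback.fst X.hom T.hom from
        (show (X ◁ δ).left ≫ (fst X W).left = (fst X T).left by rw [← Over.comp_left, whiskerLeft_fst]), Over.w δ]
      exact IsPullback.of_hasPullback X.hom T.hom
    obtain ⟨w, hw, -⟩ := Scheme.exists_preimage_of_isPullback hsq z o hz
    subst hw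
    show ((X ◁ δ) ≫ d).left w = _
    rw [hdd]
    exact congrArg η[Y].left (Subsingleton.elim (α := PrimeSpectrum k) _ _)
  have htop : ∀ x : W.left, x ∈ H23.RigidNoeth.collapsed p d.left := by
    intro x
    rw [← hC] at hmem ⊢
    rw [IsClopen.eq_univ ⟨hCc, C.2⟩ ⟨_, hmem⟩]
    trivial
  have key : d = snd X W ≫ lift (toUnit W ≫ η[X]) (𝟙 W) ≫ d :=
    Over.OverMorphism.ext (H23.RigidGen.eq_comp_section p h0 s hs d.left htop)
  have hd : d = 1 := by
    rw [key]
    have h1 : ∀ q : W ⟶ T, lift (toUnit W ≫ η[X]) (𝟙 W) ≫ (X ◁ q) ≫ g = 1 := fun q => by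
      rw [← Category.assoc, lift_whiskerLeft, Category.id_comp,
        show lift (toUnit W ≫ η[X]) q = q ≫ lift (toUnit T ≫ η[X]) (𝟙 T) by
          rw [comp_lift, Category.comp_id, ← Category.assoc, toUnit_unique (q ≫ toUnit T) (toUnit W)],
        Category.assoc, hg1, MonObj.comp_one]
    simp only [d, MonObj.comp_mul, GrpObj.comp_inv, h1, inv_one, _root_.mul_one, MonObj.comp_one]
  have hfq : EssDimLib.fqs (fst X T).left := by
    haveI : Flat e := by
      rw [HasRingHomProperty.Spec_iff (P := @Flat)]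
      exact RingHom.flat_algebraMap_iff.2 (inferInstance : Module.Flat k K)
    haveI : QuasiCompact e := inferInstance
    haveI : Surjective e := ⟨fun y => ⟨o, Subsingleton.elim (α := PrimeSpectrum k) _ y⟩⟩
    exact ⟨⟨MorphismProperty.pullback_fst (P := @Flat) _ _ ‹_›,
      MorphismProperty.pullback_fst (P := @QuasiCompact) _ _ ‹_›⟩,
      MorphismProperty.pullback_fst (P := @Surjective) _ _ ‹_›⟩
  obtain ⟨f₀, hf₀⟩ := EssDimLib.exists_desc_over (fst X T) hfq g fun {Z} g₁ g₂ h => by
    let z : Z ⟶ X ⊗ W := lift (g₁ ≫ fst X T) (lift (g₁ ≫ snd X T) (g₂ ≫ snd X T))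
    have h2 := congrArg (z ≫ ·) hd
    simp only [d, MonObj.comp_mul, GrpObj.comp_inv, MonObj.comp_one, mul_inv_eq_one, ← Category.assoc, z,
      lift_whiskerLeft, lift_fst, lift_snd] at h2
    rwa [show lift (g₁ ≫ fst X T) (g₁ ≫ snd X T) = g₁ by ext <;> simp, h,
      show lift (g₂ ≫ fst X T) (g₂ ≫ snd X T) = g₂ by ext <;> simp] at h2
  have hone : η[X] ≫ f₀ = 1 := by
    haveI : Epi (toUnit T) := by
      haveI : Flat T.hom := by
        rw [show T.hom = e from rfl, HasRingHomProperty.Spec_iff (P := @Flat)]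
        exact RingHom.flat_algebraMap_iff.2 (inferInstance : Module.Flat k K)
      haveI : Surjective T.hom := ⟨fun y => ⟨o, Subsingleton.elim (α := PrimeSpectrum k) _ y⟩⟩
      haveI : QuasiCompact T.hom := inferInstanceAs (QuasiCompact e)
      exact EssDimLib.epi_of_fqs (f := toUnit T) ⟨⟨‹Flat T.hom›, ‹QuasiCompact T.hom›⟩, ‹Surjective T.hom›⟩
    rw [← cancel_epi (toUnit T), MonObj.comp_one, ← Category.assoc,
      show toUnit T ≫ η[X] = lift (toUnit T ≫ η[X]) (𝟙 T) ≫ fst X T by rw [lift_fst], Category.assoc, hf₀, hg1]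
  refine ⟨f₀, GrpSchLib.RigidHom.isMonHom_of_one f₀ hone, Over.OverMorphism.ext ?_⟩
  apply pullback.hom_ext
  · show ((Over.pullback e).map f₀).left ≫ pullback.fst Y.hom e = f.left ≫ pullback.fst Y.hom e
    rw [show ((Over.pullback e).map f₀).left ≫ pullback.fst Y.hom e = pullback.fst X.hom e ≫ f₀.left from
      pullback.lift_fst _ _ _]
    exact congrArg CommaMorphism.left hf₀
  · exact (Over.w ((Over.pullback e).map f₀)).trans (Over.w f).symm

/-- Chow's theorem. -/
theorem exists_descend_hom (hK : AbVar.IsPrimaryExt k K) (f : Red.bc (AbVar.ext k K) X ⟶ Red.bc (AbVar.ext k K) Y)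
    [IsMonHom f] : ∃ f₀ : X ⟶ Y, IsMonHom f₀ ∧ (Over.pullback (AbVar.ext k K)).map f₀ = f :=
  exists_descend hK f (IsMonHom.one_hom (f := f))

/-- The base change to a field extension is faithful. -/
theorem map_injective {X Y : Over (Spec (CommRingCat.of k))} {f g : X ⟶ Y}
    (h : (Over.pullback (AbVar.ext k K)).map f = (Over.pullback (AbVar.ext k K)).map g) : f = g := by
  haveI : Flat (AbVar.ext k K) := by
    rw [HasRingHomProperty.Spec_iff (P := @Flat)]
    exact RingHom.flat_algebraMap_iff.2 (inferInstance : Module.Flat k K)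
  haveI : Surjective (AbVar.ext k K) :=
    ⟨fun y => ⟨IsLocalRing.closedPoint K, Subsingleton.elim (α := PrimeSpectrum k) _ y⟩⟩
  haveI : Surjective (pullback.fst X.hom (AbVar.ext k K)) :=
    MorphismProperty.pullback_fst (P := @Surjective) _ _ ‹_›
  haveI : Epi (pullback.fst X.hom (AbVar.ext k K)) := Flat.epi_of_flat_of_surjective _
  refine Over.OverMorphism.ext ((cancel_epi (pullback.fst X.hom (AbVar.ext k K))).1 ?_)
  have h1 := congrArg (fun φ => φ.left ≫ pullback.fst Y.hom (AbVar.ext k K)) h
  exact (pullback.lift_fst _ _ _).symm.trans (h1.trans (pullback.lift_fst _ _ _))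

end Groth.Agent.AVChowLib
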