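import Groth.Agent.AVChowLib.ClopenSub
import Groth.Agent.AVQuotLib.Quotient
import Groth.Agent.AVSubLib.DegDet
import Groth.Agent.GrpSchLib.KernelGrp
import Groth.Agent.GrpSchLib.HomFlat
import Groth.Agent.H23.KerIsog

/-! An abelian variety isogenous to a constant one maps bijectively onto a constant one. -/

noncomputable section

universe u

set_option linter.style.haveILetI false
set_option linter.unusedSectionVars false
set_option backward.isDefEq.respectTransparency false
set_option backward.isDefEq.respectTransparency.types false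
set_option maxHeartbeats 1000000
set_option synthInstance.maxHeartbeats 200000

open CategoryTheory CategoryTheory.Limits MonoidalCategory CartesianMonoidalCategory AlgebraicGeometry
open scoped MonObj

namespace Groth.Agent.AVChowLib

open Groth.Agent

variable {k K : Type u} [Field k] [Field K] [Algebra k K]

theorem isClosedImmersion_one {F : Type u} [Field F] (Y : Over (Spec (CommRingCat.of F))) [GrpObj Y]
    [IsSeparated Y.hom] : IsClosedImmersion η[Y].left := by
  let u : Spec (CommRingCat.of F) ⟶ Y.left := η[Y].left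
  have hu : u ≫ Y.hom = 𝟙 _ := Over.w η[Y]
  haveI : IsClosedImmersion (u ≫ Y.hom) := by rw [hu]; infer_instance
  exact IsClosedImmersion.of_comp u Y.hom

/-- The range of a kernel. -/
theorem range_ker {S : Scheme.{u}} {N X Y : Over S} [GrpObj Y] {i : N ⟶ X} {f : X ⟶ Y}
    (h : AlgGrp.IsKernel i f) : Set.range i.left = f.left ⁻¹' Set.range η[Y].left :=
  by
  have hsq : CategoryTheory.IsPullback i.left (toUnit N).left f.left η[Y].left := h.map (Over.forget S)
  rw [← hsq.isoPullback_hom_fst, ← Scheme.Pullback.range_fst f.left η[Y].left]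
  exact hsq.isoPullback.hom.surjective.range_comp (pullback.fst f.left η[Y].left)

/-- An isogeny from a constant abelian variety is followed by a bijective one to a constant abelian variety. -/
theorem exists_constant_quotient (hK : AbVar.IsPrimaryExt k K)
    (B₀ : Over (Spec (CommRingCat.of k))) [GrpObj B₀] [IsProper B₀.hom] [GeometricallyIntegral B₀.hom]
    (D : Over (Spec (CommRingCat.of K))) [GrpObj D] [IsProper D.hom] [GeometricallyIntegral D.hom]
    (φ : Red.bc (AbVar.ext k K) B₀ ⟶ D) [IsMonHom φ] [IsFinite φ.left] [Surjective φ.left] :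
    ∃ (B₁ : Over (Spec (CommRingCat.of k))) (_ : GrpObj B₁) (u : D ⟶ Red.bc (AbVar.ext k K) B₁),
      IsProper B₁.hom ∧ GeometricallyIntegral B₁.hom ∧ IsMonHom u ∧ Surjective u.left ∧
      UniversallyInjective u.left := by
  let F := Over.pullback (AbVar.ext k K)
  haveI := isProper_bc (K := K) B₀
  haveI := geometricallyIntegral_bc (K := K) B₀
  haveI : IsCommMonObj B₀ := isCommMonObj_of_isProper_of_geometricallyIntegral B₀
  haveI : IsCommMonObj (Red.bc (AbVar.ext k K) B₀) :=
    isCommMonObj_of_isProper_of_geometricallyIntegral (Red.bc (AbVar.ext k K) B₀)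
  haveI : IsCommMonObj D := isCommMonObj_of_isProper_of_geometricallyIntegral D
  haveI : IsIntegral D.left := GeometricallyIntegral.isIntegral_of_subsingleton D.hom
  obtain ⟨hfl, -, hn, ψ, _, -, -, -, hψ, -⟩ :=
    AVSubLib.exists_quasiInverse (Red.bc (AbVar.ext k K) B₀) D φ (η[D].left (IsLocalRing.closedPoint K))
  haveI := hfl
  set n := φ.left.finrank (η[D].left (IsLocalRing.closedPoint K))
  let p : B₀ ⟶ B₀ := 𝟙 B₀ ^ n
  haveI : IsFinite p.left := AVMulN.isFinite_pow (A := B₀) n hn
  haveI : IsMonHom p := TorsPtsLib.isMonHom_pow' B₀ n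
  obtain ⟨T, _, jT, _, _, -, hkT⟩ := GrpSchLib.exists_kernel p
  obtain ⟨G, _, iG, _, _, -, hkG⟩ := GrpSchLib.exists_kernel φ
  haveI : IsFinite T.hom := H23.KerIsog.prop_ker jT p @IsFinite hkT ‹_›
  haveI : IsClosedImmersion (F.map jT).left := prop_map @IsClosedImmersion jT ‹_›
  haveI : Mono (F.map jT) := Over.mono_of_mono_left (F.map jT)
  have hG1 : iG ≫ φ = 1 := hkG.w
  have hGn : iG ≫ F.map p = (toUnit G ≫ Functor.LaxMonoidal.ε F) ≫ F.map η[B₀] := by
    have h1 : F.map p = (𝟙 (Red.bc (AbVar.ext k K) B₀)) ^ n := by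
      rw [show F.map p = F.homMonoidHom (𝟙 B₀ ^ n) from rfl, map_pow]
      show F.map (𝟙 B₀) ^ n = _
      rw [F.map_id]
    rw [h1, ← hψ, ← Category.assoc, hG1, MonObj.one_comp, Category.assoc,
      show Functor.LaxMonoidal.ε F ≫ F.map η[B₀] = η[Red.bc (AbVar.ext k K) B₀] from rfl]
    rfl
  let j : G ⟶ Red.bc (AbVar.ext k K) T := (hkT.map F).lift iG (toUnit G ≫ Functor.LaxMonoidal.ε F) hGn
  have hj : j ≫ F.map jT = iG := (hkT.map F).lift_fst _ _ _
  haveI : IsMonHom j := ⟨by rw [← cancel_mono (F.map jT), Category.assoc, hj, IsMonHom.one_hom (f := iG),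
      IsMonHom.one_hom (f := F.map jT)],
    by rw [← cancel_mono (F.map jT), Category.assoc, hj, IsMonHom.mul_hom (f := iG), Category.assoc,
      IsMonHom.mul_hom (f := F.map jT), ← Category.assoc, tensorHom_comp_tensorHom, hj]⟩
  haveI : IsClosedImmersion (j.left ≫ (F.map jT).left) := by rw [← Over.comp_left, hj]; infer_instance
  haveI : IsClosedImmersion j.left := IsClosedImmersion.of_comp j.left (F.map jT).left
  obtain ⟨U, _, v, hUf, _, _, hvo, hvr⟩ := exists_clopen_subgroup hK T G j
  haveI := hUf; haveI := hvo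
  let i : U ⟶ B₀ := v ≫ jT
  haveI : IsClosedImmersion i.left := inferInstanceAs (IsClosedImmersion (v.left ≫ jT.left))
  have hkill : i ≫ (𝟙 B₀ ^ n : B₀ ⟶ B₀) = 1 := by
    show (v ≫ jT) ≫ p = 1
    rw [Category.assoc, show jT ≫ p = 1 from hkT.w, MonObj.comp_one]
  obtain ⟨B₁, _, q, hBp, hBg, _, hqf, hqfl, hqs, hiq, hqk⟩ := AVQuotLib.exists_quotient i n hn hkill
  haveI := hBp; haveI := hBg; haveI := hqs
  haveI := isProper_bc (K := K) B₁
  haveI := geometricallyIntegral_bc (K := K) B₁
  haveI : IsClosedImmersion η[B₁].left := isClosedImmersion_one B₁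
  haveI : IsOpenImmersion (F.map v).left := prop_map @IsOpenImmersion v hvo
  let g₀ : G.left ⟶ (Red.bc (AbVar.ext k K) U).left := IsOpenImmersion.lift (F.map v).left j.left hvr.ge
  let g : G ⟶ Red.bc (AbVar.ext k K) U := Over.homMk g₀ (by
    rw [← Over.w (F.map v), IsOpenImmersion.lift_fac_assoc, Over.w j])
  have hg : g ≫ F.map v = j := Over.OverMorphism.ext (IsOpenImmersion.lift_fac _ _ _)
  let qK : Red.bc (AbVar.ext k K) B₀ ⟶ Red.bc (AbVar.ext k K) B₁ := F.map q
  have hGq : iG ≫ qK = 1 := by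
    rw [← hj, ← hg, Category.assoc, Category.assoc, ← Functor.map_comp, ← Functor.map_comp,
      ← Category.assoc v jT q, hiq, Functor.map_one, MonObj.comp_one]
  haveI : IsProper (φ.left ≫ D.hom) := by rw [Over.w φ]; infer_instance
  obtain ⟨u, ⟨hu, hφu⟩, -⟩ := AVSubLib.existsUnique_factor φ qK fun Z a ha => by
    rw [← hkG.lift_fst a (toUnit Z) (by rw [ha]; rfl), Category.assoc, hGq, MonObj.comp_one]
  haveI := hu
  haveI : Surjective qK.left := prop_map @Surjective q hqs
  haveI : Surjective u.left := by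
    haveI : Surjective (φ.left ≫ u.left) := by rw [← Over.comp_left, hφu]; infer_instance
    exact Surjective.of_comp φ.left u.left
  haveI : IsIntegral (Red.bc (AbVar.ext k K) B₁).left :=
    GeometricallyIntegral.isIntegral_of_subsingleton (Red.bc (AbVar.ext k K) B₁).hom
  haveI : IsProper (u.left ≫ (Red.bc (AbVar.ext k K) B₁).hom) := by rw [Over.w u]; infer_instance
  haveI : IsProper u.left := IsProper.of_comp u.left (Red.bc (AbVar.ext k K) B₁).hom
  haveI : Flat u.left := GrpSchLib.flat_of_surjective_hom u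
  obtain ⟨N, _, ν, _, _, -, hkN⟩ := GrpSchLib.exists_kernel u
  refine ⟨B₁, inferInstance, u, hBp, hBg, hu, inferInstance, H23.KerIsog.prop_of_ker ν u @UniversallyInjective hkN ?_⟩
  let o : Spec (CommRingCat.of K) ⟶ N.left := η[N].left
  let c₀ := IsLocalRing.closedPoint K
  have hpt : ∀ (x : N.left), ν.left x = η[D].left c₀ := by
    intro x
    obtain ⟨y, hy⟩ := φ.left.surjective (ν.left x)
    have h1 : qK.left y ∈ Set.range η[Red.bc (AbVar.ext k K) B₁].left := by
      rw [show qK.left y = u.left (φ.left y) from by rw [← hφu]; rfl, hy]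
      exact (range_ker hkN).subset ⟨x, rfl⟩
    obtain ⟨z, hz⟩ := h1
    let pB₀ : (Red.bc (AbVar.ext k K) B₀).left ⟶ B₀.left := pullback.fst B₀.hom (AbVar.ext k K)
    let pB₁ : (Red.bc (AbVar.ext k K) B₁).left ⟶ B₁.left := pullback.fst B₁.hom (AbVar.ext k K)
    have hq1 : qK.left ≫ pB₁ = pB₀ ≫ q.left := pullback.lift_fst _ _ _
    have h2 : q.left (pB₀ y) ∈ Set.range η[B₁].left := by
      have e1 : (η[Red.bc (AbVar.ext k K) B₁]).left ≫ pB₁ =
          (Functor.LaxMonoidal.ε F).left ≫ pullback.fst (𝟙_ (Over (Spec (CommRingCat.of k)))).hom (AbVar.ext k K) ≫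
            η[B₁].left := by
        rw [show (η[Red.bc (AbVar.ext k K) B₁]) = Functor.LaxMonoidal.ε F ≫ F.map η[B₁] from rfl, Over.comp_left,
          Category.assoc]
        congr 1
        exact pullback.lift_fst _ _ _
      refine ⟨((Functor.LaxMonoidal.ε F).left ≫ pullback.fst (𝟙_ (Over (Spec (CommRingCat.of k)))).hom (AbVar.ext k K)) z, ?_⟩
      calc _ = ((η[Red.bc (AbVar.ext k K) B₁]).left ≫ pB₁) z := by rw [e1]; rfl
        _ = (qK.left ≫ pB₁) y := by rw [Scheme.Hom.comp_apply, hz]; rfl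
        _ = _ := by rw [hq1]; rfl
    obtain ⟨Nq, _, iq, _, _, -, hkq⟩ := GrpSchLib.exists_kernel q
    obtain ⟨w, hw⟩ := (range_ker hkq).ge h2
    obtain ⟨b, hb⟩ := hqk Nq iq hkq.w
    have h3 : pB₀ y = jT.left (v.left (b.left w)) := by rw [← hw, ← hb]; rfl
    obtain ⟨t, ht⟩ := (range_map_left (K := K) jT).ge (show y ∈ pB₀ ⁻¹' Set.range jT.left from ⟨_, h3.symm⟩)
    have h4 : t ∈ Set.range j.left := by
      rw [← hvr, range_map_left]
      refine ⟨b.left w, jT.left.isClosedEmbedding.injective ?_⟩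
      rw [← h3, ← ht]
      have e2 : (F.map jT).left ≫ pB₀ = pullback.fst T.hom (AbVar.ext k K) ≫ jT.left := pullback.lift_fst _ _ _
      exact congrArg (fun m : (Red.bc (AbVar.ext k K) T).left ⟶ B₀.left => m t) e2
    obtain ⟨s, rfl⟩ := h4
    rw [← hy, ← ht, show (F.map jT).left (j.left s) = iG.left s from by rw [← hj]; rfl]
    obtain ⟨c, hc⟩ := (range_ker hkG).subset ⟨s, rfl⟩
    rw [← hc, Subsingleton.elim (α := PrimeSpectrum K) c c₀]
  haveI : Subsingleton N.left := ⟨fun x y => ν.left.isClosedEmbedding.injective ((hpt x).trans (hpt y).symm)⟩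
  haveI : Nonempty N.left := ⟨o c₀⟩
  haveI : ConnectedSpace N.left :=
    { toPreconnectedSpace := ⟨Set.subsingleton_univ.isPreconnected⟩, toNonempty := inferInstance }
  haveI : IsProper N.hom := H23.KerIsog.prop_ker ν u @IsProper hkN ‹_›
  haveI : LocallyQuasiFinite N.hom := LocallyQuasiFinite.of_injective (fun _ _ _ => Subsingleton.elim _ _)
  haveI : IsFinite N.hom := IsFinite.of_isProper_of_locallyQuasiFinite N.hom
  exact H23.KerIsog.universallyInjective_of_connected N.hom o (Over.w η[N])

end Groth.Agent.AVChowLib
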