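import Groth.Agent.AVChowLib.Hom
import Groth.Agent.AVSplitLib.Regular
import Groth.Agent.H23.BcComp

/-! Abelian subvarieties and images descend along primary extensions. -/

noncomputable section

universe u

set_option linter.style.haveILetI false
set_option linter.unusedSectionVars false
set_option backward.isDefEq.respectTransparency false
set_option backward.isDefEq.respectTransparency.types false
set_option maxHeartbeats 1000000
set_option synthInstance.maxHeartbeats 200000

open CategoryTheory CategoryTheory.Limits MonoidalCategory CartesianMonoidalCategory AlgebraicGeometry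
open scoped MonObj

namespace Groth.Agent.AVChowLib

open Groth.Agent

variable {k K : Type u} [Field k] [Field K] [Algebra k K]

theorem isProper_bc (X : Over (Spec (CommRingCat.of k))) [IsProper X.hom] :
    IsProper (Red.bc (AbVar.ext k K) X).hom := MorphismProperty.pullback_snd _ _ ‹_›

theorem geometricallyIntegral_bc (X : Over (Spec (CommRingCat.of k))) [GeometricallyIntegral X.hom] :
    GeometricallyIntegral (Red.bc (AbVar.ext k K) X).hom := MorphismProperty.pullback_snd _ _ ‹_›

/-- The base change of a morphism has the same properties. -/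
theorem prop_map (P : MorphismProperty Scheme.{u}) [P.IsStableUnderBaseChange] {X Y : Over (Spec (CommRingCat.of k))}
    (f : X ⟶ Y) (hf : P f.left) : P ((Over.pullback (AbVar.ext k K)).map f).left := by
  have hsq : IsPullback ((Over.pullback (AbVar.ext k K)).map f).left (pullback.fst X.hom (AbVar.ext k K))
      (pullback.fst Y.hom (AbVar.ext k K)) f.left := by
    refine IsPullback.of_right (h₁₂ := pullback.snd Y.hom (AbVar.ext k K)) (h₂₂ := Y.hom) (v₁₃ := AbVar.ext k K)
      ?_ (pullback.lift_fst _ _ _) (IsPullback.of_hasPullback Y.hom (AbVar.ext k K)).flip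
    rw [Over.w f, show ((Over.pullback (AbVar.ext k K)).map f).left ≫ pullback.snd Y.hom (AbVar.ext k K) =
      pullback.snd X.hom (AbVar.ext k K) from Over.w ((Over.pullback (AbVar.ext k K)).map f)]
    exact (IsPullback.of_hasPullback X.hom (AbVar.ext k K)).flip
  exact MorphismProperty.of_isPullback hsq.flip hf

variable {A : Over (Spec (CommRingCat.of k))} [GrpObj A] [IsProper A.hom] [GeometricallyIntegral A.hom]

/-- An abelian subvariety over a primary extension descends. -/
theorem exists_subvariety (hK : AbVar.IsPrimaryExt k K) (B' : Over (Spec (CommRingCat.of K))) [GrpObj B']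
    [IsProper B'.hom] [GeometricallyIntegral B'.hom] (i' : B' ⟶ Red.bc (AbVar.ext k K) A) [IsMonHom i']
    [IsClosedImmersion i'.left] :
    ∃ (B : Over (Spec (CommRingCat.of k))) (_ : GrpObj B) (i : B ⟶ A), IsProper B.hom ∧ GeometricallyIntegral B.hom ∧
      IsMonHom i ∧ IsClosedImmersion i.left ∧
      ∃ (e : Red.bc (AbVar.ext k K) B ≅ B'), e.hom ≫ i' = (Over.pullback (AbVar.ext k K)).map i := by
  haveI := isProper_bc (K := K) A
  haveI := geometricallyIntegral_bc (K := K) A
  haveI : IsCommMonObj B' := isCommMonObj_of_isProper_of_geometricallyIntegral B'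
  obtain ⟨h, _, n, hn, hh⟩ := AVSplitLib.exists_retraction i'
  obtain ⟨e₀, _, he₀⟩ := exists_descend_hom hK (h ≫ i')
  obtain ⟨B, _, i, e', _, _, hic, hBp, hBg, hes, he'⟩ := AVSplitLib.exists_image e₀
  haveI := hic; haveI := hBp; haveI := hBg; haveI := hes
  haveI := isProper_bc (K := K) B
  haveI := geometricallyIntegral_bc (K := K) B
  let iK := (Over.pullback (AbVar.ext k K)).map i
  let eK := (Over.pullback (AbVar.ext k K)).map e'
  haveI : IsClosedImmersion iK.left := prop_map @IsClosedImmersion i ‹_›
  haveI : Surjective eK.left := prop_map @Surjective e' ‹_›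
  have hfac : eK ≫ iK = h ≫ i' := by rw [← he₀, ← he', Functor.map_comp]
  haveI : Surjective h.left := by
    haveI := AVMulN.surjective_pow (A := B') n hn
    haveI : Surjective (i'.left ≫ h.left) := by rw [← Over.comp_left, hh]; infer_instance
    exact Surjective.of_comp i'.left h.left
  haveI : IsIntegral B'.left := GeometricallyIntegral.isIntegral_of_subsingleton B'.hom
  haveI : IsIntegral (Red.bc (AbVar.ext k K) B).left :=
    GeometricallyIntegral.isIntegral_of_subsingleton (Red.bc (AbVar.ext k K) B).hom
  have hl : eK.left ≫ iK.left = h.left ≫ i'.left := congrArg CommaMorphism.left hfac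
  have hrange : Set.range iK.left = Set.range i'.left := by
    have h1 : Set.range (eK.left ≫ iK.left) = Set.range iK.left := eK.left.surjective.range_comp iK.left
    have h2 : Set.range (h.left ≫ i'.left) = Set.range i'.left := h.left.surjective.range_comp i'.left
    rw [← h1, hl, h2]
  obtain ⟨u, hu⟩ := H23.RedSub.exists_lift_closed iK.left i'.left hrange.subset
  obtain ⟨v, hv⟩ := H23.RedSub.exists_lift_closed i'.left iK.left hrange.symm.subset
  let a : Red.bc (AbVar.ext k K) B ⟶ B' := Over.homMk u (by rw [← Over.w i', ← Category.assoc, hu, Over.w])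
  let b : B' ⟶ Red.bc (AbVar.ext k K) B := Over.homMk v (by rw [← Over.w iK, ← Category.assoc, hv, Over.w])
  have ha : a ≫ i' = iK := Over.OverMorphism.ext hu
  have hb : b ≫ iK = i' := Over.OverMorphism.ext hv
  haveI : Mono i' := Over.mono_of_mono_left i'
  haveI : Mono iK := Over.mono_of_mono_left iK
  exact ⟨B, inferInstance, i, hBp, hBg, inferInstance, hic,
    ⟨a, b, by rw [← cancel_mono iK, Category.assoc, hb, ha, Category.id_comp],
      by rw [← cancel_mono i', Category.assoc, ha, hb, Category.id_comp]⟩, ha⟩

end Groth.Agent.AVChowLib
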